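import Cfsg.Agent.Lib.Linear.WeilUnique.Stab

/-!
# The functions model of a representation with weights of rank at most one

Such a representation contains vectors indexed by the row vectors on which the generators act by the formulas
of a Weil representation.
-/

set_option autoImplicit false

namespace Cfsg.Lib.Linear.WeilUnique

open Matrix

variable {F : Type*} [Field F] [Fintype F] [DecidableEq F] {n : ℕ} {V : Type*} [AddCommGroup V] [Module ℂ V]

/-- Vectors on which the generators act as in a Weil representation. -/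
structure IsModel (ψ : AddChar F ℂ) (ρ : Sp F n →* Module.End ℂ V) (a : F) (ε : ℂ) (f : (Fin n → F) → V) :
    Prop where
  eps : ε = 1 ∨ ε = -1
  neg : ∀ x, f (-x) = ε • f x
  qel : ∀ S x, ρ (qel S) (f x) = ψ (a * (x ⬝ᵥ S.1 *ᵥ x)) • f x
  levi : ∀ (A : GL (Fin n) F) x,
    ρ (levi A) (f x) = qchi F (A : Matrix (Fin n) (Fin n) F).det • f ((A : Matrix (Fin n) (Fin n) F) *ᵥ x)
  wel : ∀ j x, ρ (wel j) (f x) = gam ψ a • ∑ r : F, ψ (2 * a * x j * r) • f (Function.update x j r)
  ne_zero : ∀ x, x ≠ 0 → f x ≠ 0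
  zero_ne : ε = 1 → f 0 ≠ 0

variable {ψ : AddChar F ℂ} {ρ : Sp F n →* Module.End ℂ V}

/-- A permuted matrix carrying one coordinate to another and a second one to a given vector. -/
theorem exists_carrier {i j₀ : Fin n} (hij : j₀ ≠ i) (j : Fin n) (x : Fin n → F) (hxj : x j = 0) (hx : x ≠ 0) :
    ∃ A : GL (Fin n) F, Carries A j₀ j ∧ (A : Matrix (Fin n) (Fin n) F) *ᵥ Pi.single i 1 = x ∧
      (A : Matrix (Fin n) (Fin n) F) *ᵥ Pi.single j₀ 1 = Pi.single j 1 := by
  obtain ⟨k, hk⟩ := Function.ne_iff.mp hx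
  have hkj : k ≠ j := fun e => hk (e ▸ hxj)
  obtain ⟨σ, hσj, hσi⟩ : ∃ σ : Equiv.Perm (Fin n), σ j₀ = j ∧ σ i = k := by
    refine ⟨(Equiv.swap j₀ j).trans (Equiv.swap (Equiv.swap j₀ j i) k), ?_, ?_⟩
    · rw [Equiv.trans_apply, Equiv.swap_apply_left, Equiv.swap_apply_of_ne_of_ne ?_ hkj.symm]
      intro e
      have := congrArg (Equiv.swap j₀ j) e
      rw [Equiv.swap_apply_self, Equiv.swap_apply_right] at this
      exact hij this
    · rw [Equiv.trans_apply, Equiv.swap_apply_left]
  obtain ⟨M, hM⟩ : ∃ M : Matrix (Fin n) (Fin n) F,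
      M = (Matrix.updateCol (1 : Matrix (Fin n) (Fin n) F) k x).submatrix id σ := ⟨_, rfl⟩
  have hdet : M.det ≠ 0 := by
    rw [hM, Matrix.det_permute', ← Matrix.cramer_apply, Matrix.cramer_one]
    refine mul_ne_zero ?_ hk
    rcases Int.units_eq_one_or (Equiv.Perm.sign σ) with e | e <;> simp [e]
  have hcol : ∀ b, M *ᵥ Pi.single b 1 = if σ b = k then x else Pi.single (σ b) 1 := fun b => by
    funext a
    rw [mulVec_single_one, hM, Matrix.col_apply, Matrix.submatrix_apply, id, Matrix.updateCol_apply]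
    split_ifs with h
    · rfl
    · rw [Matrix.one_apply, Pi.single_apply]
  refine ⟨Matrix.GeneralLinearGroup.mkOfDetNeZero M hdet, ⟨?_, ?_⟩, ?_, ?_⟩
  · show M * eu j₀ j₀ = eu j j₀
    refine Matrix.ext_of_mulVec_single fun b => ?_
    rw [← mulVec_mulVec, eu_mulVec, eu_mulVec]
    by_cases hb : b = j₀
    · subst hb
      rw [Pi.single_eq_same, hcol, hσj, if_neg hkj.symm]
    · rw [Pi.single_eq_of_ne (Ne.symm hb), Pi.single_zero, Pi.single_zero, mulVec_zero]
  · show eu j j * M = eu j j₀
    refine Matrix.ext_of_mulVec_single fun b => ?_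
    rw [← mulVec_mulVec, eu_mulVec, eu_mulVec, hcol]
    congr 1
    split_ifs with h
    · rw [hxj, Pi.single_eq_of_ne]
      intro e
      rw [← e, hσj] at h
      exact hkj h.symm
    · by_cases hb : b = j₀
      · rw [hb, hσj, Pi.single_eq_same, Pi.single_eq_same]
      · rw [Pi.single_eq_of_ne (Ne.symm hb), Pi.single_eq_of_ne]
        exact fun e => hb (σ.injective (by rw [← e, hσj]))
  · show M *ᵥ _ = _
    rw [hcol, if_pos hσi]
  · show M *ᵥ _ = _
    rw [hcol, hσj, if_neg hkj.symm]

theorem eq_zero_of_wel_eq (hψ : ψ.IsPrimitive) (h2 : (2 : F) ≠ 0) {a : F} (ha : a ≠ 0) (j : Fin n) {y : V}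
    (hy : ρ (wel j) y = gam ψ a • y) : y = 0 := by
  have h4 : ρ (wel j * wel j * (wel j * wel j)) y = y := by
    rw [wel_sq, ← map_mul, ← dg_mul, neg_one_mul, neg_neg,
      show dg j (1 : Fˣ) = 1 from Units.ext (by simp [dg_val]), map_one, map_one, Module.End.one_apply]
  simp only [map_mul, Module.End.mul_apply, hy, map_smul, smul_smul] at h4
  have h0 : (gam ψ a ^ 4 - 1) • y = 0 := by
    rw [sub_smul, one_smul, sub_eq_zero]
    conv_rhs => rw [← h4]
    congr 1
    ring
  exact (smul_eq_zero.mp h0).resolve_left (sub_ne_zero.mpr (gam_pow_four hψ h2 ha))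

set_option maxHeartbeats 1000000 in
/-- A weight vector of rank one gives a model. -/
theorem exists_model [FiniteDimensional ℂ V] (hψ : ψ.IsPrimitive) (h2 : (2 : F) ≠ 0) (hn : 2 ≤ n)
    (hlow : LowRank ψ ρ) {a : F} (ha : a ≠ 0) {i : Fin n} {v₀ : V} (hv₀ : v₀ ∈ ws ψ ρ (rk1 a (Pi.single i 1)))
    (hne : v₀ ≠ 0) : ∃ ε f, IsModel ψ ρ a ε f := by
  classical
  obtain ⟨j₀, hij⟩ : ∃ j₀ : Fin n, j₀ ≠ i := by
    rcases eq_or_ne i ⟨0, by omega⟩ with h | h
    · exact ⟨⟨1, by omega⟩, by rw [h]; simp [Fin.ext_iff]⟩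
    · exact ⟨⟨0, by omega⟩, h.symm⟩
  -- an eigenvector of the reflection fixing the other coordinates
  obtain ⟨v, ε, hv, hvne, hεv, hε⟩ : ∃ (v : V) (ε : ℂ), v ∈ ws ψ ρ (rk1 a (Pi.single i 1)) ∧ v ≠ 0 ∧
      ρ (levi (dg i (-1))) v = (qchi F (-1) * ε) • v ∧ (ε = 1 ∨ ε = -1) := by
    obtain ⟨y, hy⟩ : ∃ y, y = qchi F (-1) • ρ (levi (dg i (-1))) v₀ := ⟨_, rfl⟩
    have hym : y ∈ ws ψ ρ (rk1 a (Pi.single i 1)) := by
      rw [hy]
      refine Submodule.smul_mem _ _ ?_
      have h := levi_mem_ws (dg i (-1)) hv₀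
      rwa [congrB_rk1, dg_mulVec, Pi.single_eq_same, mul_one,
        show Function.update (Pi.single i (1 : F) : Fin n → F) i (((-1 : Fˣ) : F)) = -Pi.single i 1 by
          funext k; by_cases hk : k = i
          · subst hk; simp
          · simp [hk],
        rk1_neg] at h
    have hm1 := qchi_sq (F := F) (neg_ne_zero.mpr one_ne_zero)
    have hdy : ρ (levi (dg i (-1))) y = qchi F (-1) • v₀ := by
      rw [hy, map_smul, ← Module.End.mul_apply, ← map_mul, ← map_mul, ← dg_mul, neg_one_mul, neg_neg,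
        show dg i (1 : Fˣ) = 1 from Units.ext (by simp [dg_val]), map_one, map_one, Module.End.one_apply]
    have hdv : ρ (levi (dg i (-1))) v₀ = qchi F (-1) • y := by
      rw [hy, smul_smul, hm1, one_smul]
    by_cases h : v₀ + y = 0
    · refine ⟨v₀ - y, -1, Submodule.sub_mem _ hv₀ hym, fun e => hne ?_, ?_, Or.inr rfl⟩
      · have : (2 : ℂ) • v₀ = 0 := by
          rw [two_smul]
          calc v₀ + v₀ = (v₀ + y) + (v₀ - y) := by abel
            _ = 0 := by rw [h, e, add_zero]
        exact (smul_eq_zero.mp this).resolve_left two_ne_zero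
      · rw [map_sub, hdv, hdy, mul_neg_one, neg_smul, ← smul_sub, ← smul_neg, neg_sub]
    · exact ⟨v₀ + y, 1, Submodule.add_mem _ hv₀ hym, h, by
        rw [map_add, hdv, hdy, mul_one, smul_add, add_comm], Or.inl rfl⟩
  clear hv₀ hne v₀
  have hχ2 : ∀ A : GL (Fin n) F,
      qchi F (A : Matrix (Fin n) (Fin n) F).det * qchi F (A : Matrix (Fin n) (Fin n) F).det = 1 := fun A =>
    qchi_sq ((Matrix.isUnit_iff_isUnit_det _).mp A.isUnit).ne_zero
  -- the vectors of the orbit
  have hex : ∀ x : Fin n → F, x ≠ 0 → ∃ A : GL (Fin n) F, (A : Matrix (Fin n) (Fin n) F) *ᵥ Pi.single i 1 = x :=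
    fun x hx => by
      obtain ⟨B, B', hB, hBe⟩ := SymmCongr.exists_column x hx i
      exact ⟨⟨B, B', hB, mul_eq_one_comm.mp hB⟩, hBe⟩
  choose A hA using hex
  obtain ⟨g, hg⟩ : ∃ g : (Fin n → F) → V, g = fun x => if hx : x = 0 then 0 else
      qchi F (A x hx : Matrix (Fin n) (Fin n) F).det • ρ (levi (A x hx)) v := ⟨_, rfl⟩
  have horb : ∀ (x : Fin n → F) (hx : x ≠ 0) (B : GL (Fin n) F),
      (B : Matrix (Fin n) (Fin n) F) *ᵥ Pi.single i 1 = x →
        g x = qchi F (B : Matrix (Fin n) (Fin n) F).det • ρ (levi B) v := by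
    intro x hx B hB
    rw [hg]
    simp only [dif_neg hx]
    obtain ⟨H, hH⟩ : ∃ H, H = (A x hx)⁻¹ * B := ⟨_, rfl⟩
    have hHe : (H : Matrix (Fin n) (Fin n) F) *ᵥ Pi.single i 1 = Pi.single i 1 := by
      rw [hH, Units.val_mul, ← mulVec_mulVec, hB]
      have e := congrArg (fun y => (((A x hx)⁻¹ : GL (Fin n) F) : Matrix (Fin n) (Fin n) F) *ᵥ y) (hA x hx)
      simp only [mulVec_mulVec, Units.inv_mul, one_mulVec] at e
      exact e.symm
    have hBH : B = A x hx * H := by rw [hH, mul_inv_cancel_left]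
    rw [hBH, map_mul, map_mul, Module.End.mul_apply, stab_apply hψ h2 hlow ha H hHe hv, map_smul, smul_smul,
      Units.val_mul, Matrix.det_mul, map_mul, mul_assoc, hχ2 H, mul_one]
  have hne0 : ∀ (B : GL (Fin n) F) (x : Fin n → F), x ≠ 0 → (B : Matrix (Fin n) (Fin n) F) *ᵥ x ≠ 0 := fun B x hx e =>
    hx (by rw [← one_mulVec x, ← B.inv_mul, ← mulVec_mulVec, e, mulVec_zero])
  have glevi : ∀ (B : GL (Fin n) F) x, x ≠ 0 →
      ρ (levi B) (g x) = qchi F (B : Matrix (Fin n) (Fin n) F).det • g ((B : Matrix (Fin n) (Fin n) F) *ᵥ x) := by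
    intro B x hx
    rw [horb x hx _ (hA x hx), horb _ (hne0 B x hx) (B * A x hx) (by rw [Units.val_mul, ← mulVec_mulVec, hA]),
      map_smul, smul_smul, map_mul, map_mul, Module.End.mul_apply, Units.val_mul, Matrix.det_mul, map_mul,
      ← mul_assoc, hχ2 B, one_mul]
  have gqel : ∀ S x, x ≠ 0 → ρ (qel S) (g x) = ψ (a * (x ⬝ᵥ S.1 *ᵥ x)) • g x := by
    intro S x hx
    rw [horb x hx _ (hA x hx), map_smul, smul_comm, ← phi_rk1]
    congr 1
    have h := levi_mem_ws (A x hx) hv
    rw [congrB_rk1, hA] at h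
    exact h S
  have gne : ∀ x, x ≠ 0 → g x ≠ 0 := by
    intro x hx e
    rw [horb x hx _ (hA x hx), smul_eq_zero] at e
    rcases e with e | e
    · have := hχ2 (A x hx); rw [e, zero_mul] at this; exact zero_ne_one this
    · apply hvne
      have := congrArg (ρ (levi (A x hx)⁻¹)) e
      rwa [← Module.End.mul_apply, ← map_mul, ← map_mul, inv_mul_cancel, map_one, map_one, map_zero,
        Module.End.one_apply] at this
  have gneg : ∀ x, x ≠ 0 → g (-x) = ε • g x := by
    intro x hx
    rw [horb x hx _ (hA x hx), horb (-x) (neg_ne_zero.mpr hx) (A x hx * dg i (-1)) (by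
      rw [Units.val_mul, ← mulVec_mulVec, dg_mulVec, Pi.single_eq_same, mul_one,
        show Function.update (Pi.single i (1 : F) : Fin n → F) i (((-1 : Fˣ) : F)) = -Pi.single i 1 by
          funext k; by_cases hk : k = i
          · subst hk; simp
          · simp [hk],
        mulVec_neg, hA]), map_mul, map_mul, Module.End.mul_apply, hεv, map_smul, smul_smul, smul_smul,
      Units.val_mul, Matrix.det_mul, map_mul, det_dg, Units.val_neg, Units.val_one]
    congr 1
    have hm1 := qchi_sq (F := F) (neg_ne_zero.mpr one_ne_zero)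
    linear_combination (qchi F (A x hx : Matrix (Fin n) (Fin n) F).det * ε) * hm1
  have hbase : g (Pi.single i 1) = v := by
    rw [horb _ (by simp) 1 (by rw [Units.val_one, one_mulVec]), map_one, map_one, Module.End.one_apply,
      Units.val_one, Matrix.det_one, map_one, one_smul]
  have gwel : ∀ j x, (∃ k, k ≠ j ∧ x k ≠ 0) →
      ρ (wel j) (g x) = gam ψ a • ∑ r : F, ψ (2 * a * x j * r) • g (Function.update x j r) := by
    intro j x hx
    obtain ⟨k, hkj, hxk⟩ := hx
    obtain ⟨B, hB, hBi, hBj⟩ := exists_carrier hij j (Function.update x j 0) (by simp)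
      (fun e => hxk (by have := congrFun e k; simpa [hkj] using this))
    have hz : ∀ r : F, (Pi.single i 1 + Pi.single j₀ r : Fin n → F) ≠ 0 := fun r e => by
      have := congrFun e i; simp [hij.symm] at this
    have hBz : ∀ r, (B : Matrix (Fin n) (Fin n) F) *ᵥ (Pi.single i 1 + Pi.single j₀ r) = Function.update x j r :=
      fun r => by
        rw [mulVec_add, hBi, show (Pi.single j₀ r : Fin n → F) = r • Pi.single j₀ 1 by
          rw [← Pi.single_smul, smul_eq_mul, mul_one], mulVec_smul, hBj]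
        funext l
        by_cases hl : l = j
        · subst hl; simp
        · simp [hl]
    have htr : ∀ r, g (Pi.single i 1 + Pi.single j₀ r) = ρ (levi (tr j₀ i hij r)) v := fun r => by
      rw [horb _ (hz r) (tr j₀ i hij r) (tr_single _ _ _ _), det_tr, map_one, one_smul]
    have hw0 : ∀ t, ρ (wel j₀) (g (Pi.single i 1 + Pi.single j₀ t)) =
        gam ψ a • ∑ r : F, ψ (2 * a * t * r) • g (Pi.single i 1 + Pi.single j₀ r) := by
      intro t
      rw [htr, ← Module.End.mul_apply, ← map_mul, ← qel_wel_pair i j₀ hij.symm t, map_mul, Module.End.mul_apply,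
        wel_apply hψ h2 hlow ha hij hv, map_smul, map_sum]
      congr 1
      refine Finset.sum_congr rfl fun r _ => ?_
      rw [← htr, gqel _ _ (hz r)]
      congr 2
      simp [pairS, eu_apply, dotProduct_single, mulVec_add, hij, hij.symm]
      ring
    have key := congrArg (ρ (levi B)) (hw0 (x j))
    rw [← Module.End.mul_apply, ← map_mul, levi_wel hB, map_mul, Module.End.mul_apply, glevi B _ (hz _), map_smul,
      map_smul, map_sum, hBz, Function.update_eq_self] at key
    have e : ∀ r, ρ (levi B) (ψ (2 * a * x j * r) • g (Pi.single i 1 + Pi.single j₀ r)) =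
        qchi F (B : Matrix (Fin n) (Fin n) F).det • (ψ (2 * a * x j * r) • g (Function.update x j r)) := fun r => by
      rw [map_smul, glevi B _ (hz r), hBz, smul_comm]
    simp only [e, ← Finset.smul_sum] at key
    rw [smul_comm (gam ψ a)] at key
    exact smul_right_injective V (fun h0 => by have := hχ2 B; rw [h0, zero_mul] at this; exact zero_ne_one this) key
  -- sums along a line
  obtain ⟨L, hL⟩ : ∃ L : Fin n → F → V, ∀ j r, L j r = g (Pi.single j r) := ⟨_, fun j r => rfl⟩
  obtain ⟨U, hU⟩ : ∃ U : Fin n → F → V, ∀ j t, U j t = (gam ψ a)⁻¹ • ρ (wel j) (L j t) -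
      ∑ r ∈ Finset.univ.erase (0 : F), ψ (2 * a * t * r) • L j r := ⟨_, fun j t => rfl⟩
  have hγ := gam_ne_zero hψ h2 ha
  have hwL : ∀ j t, ρ (wel j) (L j t) =
      gam ψ a • (U j t + ∑ r ∈ Finset.univ.erase (0 : F), ψ (2 * a * t * r) • L j r) := fun j t => by
    rw [hU, sub_add_cancel, smul_smul, mul_inv_cancel₀ hγ, one_smul]
  have hsne : ∀ (j : Fin n) (r : F), r ≠ 0 → (Pi.single j r : Fin n → F) ≠ 0 := fun j r hr e =>
    hr (by have := congrFun e j; simpa using this)
  have hcross : ∀ i' j : Fin n, i' ≠ j → ∀ r, r ≠ 0 → ρ (wel i') (L j r) = gam ψ a • (L j r +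
      ∑ s ∈ Finset.univ.erase (0 : F), g (Pi.single j r + Pi.single i' s)) := by
    intro i' j h r hr
    rw [hL, gwel i' _ ⟨j, h.symm, by simpa using hr⟩, ← Finset.add_sum_erase _ _ (Finset.mem_univ (0 : F))]
    congr 2
    · rw [mul_zero, AddChar.map_zero_eq_one, one_smul]
      congr 1
      funext l; by_cases hl : l = i'
      · subst hl; simp [h]
      · simp [hl]
    · refine Finset.sum_congr rfl fun s _ => ?_
      rw [Pi.single_eq_of_ne h, mul_zero, zero_mul, AddChar.map_zero_eq_one, one_smul]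
      congr 1
      funext l; by_cases hl : l = i'
      · subst hl; simp [h]
      · simp [hl]
  have hU1 : ∀ i' j : Fin n, i' ≠ j → ∀ t, t ≠ 0 →
      ρ (wel i') (U j t) = gam ψ a • (U j t + ∑ s ∈ Finset.univ.erase (0 : F), L i' s) := by
    intro i' j h t ht
    conv_lhs => rw [hU]
    rw [map_sub, map_smul, map_sum, ← Module.End.mul_apply, ← map_mul, wel_comm i' j h, map_mul,
      Module.End.mul_apply, hcross i' j h t ht, map_smul, smul_smul, inv_mul_cancel₀ hγ, one_smul, map_add, map_sum,
      hwL]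
    have e1 : ∀ s ∈ Finset.univ.erase (0 : F), ρ (wel j) (g (Pi.single j t + Pi.single i' s)) =
        gam ψ a • (L i' s + ∑ r ∈ Finset.univ.erase (0 : F), ψ (2 * a * t * r) • g (Pi.single j r + Pi.single i' s)) := by
      intro s hs
      rw [gwel j _ ⟨i', h, by simp [h]; exact Finset.ne_of_mem_erase hs⟩,
        ← Finset.add_sum_erase _ _ (Finset.mem_univ (0 : F))]
      congr 2
      · rw [mul_zero, AddChar.map_zero_eq_one, one_smul, hL]
        congr 1
        funext l; by_cases hl : l = j
        · subst hl; simp [h.symm]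
        · simp [hl]
      · refine Finset.sum_congr rfl fun r _ => ?_
        congr 2
        · simp [h.symm]
        · funext l; by_cases hl : l = j
          · subst hl; simp [h.symm]
          · simp [hl]
    have e2 : ∀ r ∈ Finset.univ.erase (0 : F), ρ (wel i') (ψ (2 * a * t * r) • L j r) =
        gam ψ a • (ψ (2 * a * t * r) • L j r + ∑ s ∈ Finset.univ.erase (0 : F),
          ψ (2 * a * t * r) • g (Pi.single j r + Pi.single i' s)) := by
      intro r hr
      rw [map_smul, hcross i' j h r (Finset.ne_of_mem_erase hr), smul_comm, smul_add, Finset.smul_sum]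
    rw [Finset.sum_congr rfl e1, Finset.sum_congr rfl e2, ← Finset.smul_sum, ← Finset.smul_sum, Finset.sum_add_distrib,
      Finset.sum_add_distrib, Finset.sum_comm (s := Finset.univ.erase (0 : F))]
    simp only [smul_add]
    abel
  have huniq : ∀ (j : Fin n) (y y' S' : V), ρ (wel j) y = gam ψ a • (y + S') →
      ρ (wel j) y' = gam ψ a • (y' + S') → y = y' := fun j y y' S' h h' => by
    refine sub_eq_zero.mp (eq_zero_of_wel_eq hψ h2 ha j (ρ := ρ) ?_)
    rw [map_sub, h, h', ← smul_sub, add_sub_add_right_eq_sub]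
  have hother : ∀ j : Fin n, ∃ k, k ≠ j := fun j => by
    rcases eq_or_ne j i with h | h
    · exact ⟨j₀, h ▸ hij⟩
    · exact ⟨i, h.symm⟩
  have hUt : ∀ j t, t ≠ 0 → U j t = U j 1 := fun j t ht => by
    obtain ⟨k, hk⟩ := hother j
    exact huniq k _ _ _ (hU1 k j hk t ht) (hU1 k j hk 1 one_ne_zero)
  have hsq : ∀ s : F, ∑ r ∈ Finset.univ.erase (0 : F), ψ (2 * a * s * r) =
      (if s = 0 then (Fintype.card F : ℂ) else 0) - 1 := fun s => by
    rw [Finset.sum_erase_eq_sub (Finset.mem_univ _), sum_mul_psi hψ, mul_zero, AddChar.map_zero_eq_one]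
    congr 1
    exact if_congr (by simp [h2, ha]) rfl rfl
  have hU2 : ∀ j, ρ (wel j) (U j 1) = gam ψ a • (U j 1 + ∑ s ∈ Finset.univ.erase (0 : F), L j s) := by
    intro j
    have hd : ρ (wel j) (ρ (wel j) (L j 1)) = qchi F (-1) • L j (-1) := by
      rw [← Module.End.mul_apply, ← map_mul, wel_sq, hL, glevi _ _ (hsne j 1 one_ne_zero), det_dg, dg_mulVec, hL]
      simp [Function.update]
      congr 2
      funext l; by_cases hl : l = j
      · subst hl; simp
      · simp [hl]
    have e2 : ∀ r ∈ Finset.univ.erase (0 : F), ρ (wel j) (ψ (2 * a * 1 * r) • L j r) =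
        gam ψ a • (ψ (2 * a * 1 * r) • U j 1 + ∑ s ∈ Finset.univ.erase (0 : F), ψ (2 * a * (1 + s) * r) • L j s) := by
      intro r hr
      rw [map_smul, hwL, hUt j r (Finset.ne_of_mem_erase hr), smul_comm, smul_add, Finset.smul_sum]
      congr 2
      refine Finset.sum_congr rfl fun s _ => ?_
      rw [smul_smul, ← AddChar.map_add_eq_mul]
      congr 2
      ring
    have hneg1 : (-1 : F) ∈ Finset.univ.erase (0 : F) := by simp
    have e3 : ∑ s ∈ Finset.univ.erase (0 : F), ((if 1 + s = 0 then (Fintype.card F : ℂ) else 0) - 1) • L j s =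
        (Fintype.card F : ℂ) • L j (-1) - ∑ s ∈ Finset.univ.erase (0 : F), L j s := by
      simp only [sub_smul, one_smul, Finset.sum_sub_distrib]
      congr 1
      rw [Finset.sum_eq_single_of_mem _ hneg1 fun s _ hs => by
        rw [if_neg fun e => hs (eq_neg_of_add_eq_zero_right e), zero_smul]]
      rw [if_pos (add_neg_cancel _)]
    nth_rw 1 [hU]
    rw [map_sub, map_smul, map_sum, hd, Finset.sum_congr rfl e2, ← Finset.smul_sum, Finset.sum_add_distrib,
      ← Finset.sum_smul, hsq, if_neg one_ne_zero, Finset.sum_comm]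
    simp only [← Finset.sum_smul, hsq]
    rw [e3, smul_smul, show (gam ψ a)⁻¹ * qchi F (-1) = gam ψ a * (Fintype.card F : ℂ) by
      rw [← gam_sq hψ h2 ha]; field_simp]
    module
  obtain ⟨u, hu⟩ : ∃ u, u = U i 1 := ⟨_, rfl⟩
  have hUu : ∀ j t, t ≠ 0 → U j t = u := fun j t ht => by
    rw [hUt j t ht, hu]
    by_cases h : j = i
    · rw [h]
    · exact huniq j _ _ _ (hU2 j) (hU1 j i h 1 one_ne_zero)
  have hwu : ∀ j, ρ (wel j) u = gam ψ a • (u + ∑ s ∈ Finset.univ.erase (0 : F), L j s) := fun j => by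
    rw [← hUu j 1 one_ne_zero]; exact hU2 j
  -- the weight of the central vector is zero
  have hdiag : ∀ (j : Fin n) c, ρ (qel (diagS j c)) u = u := by
    intro j c
    obtain ⟨k, hk⟩ := hother j
    refine huniq k _ _ (∑ s ∈ Finset.univ.erase (0 : F), L k s) ?_ (hwu k)
    have hS : ∀ l, (diagS j c).1 k l = 0 := fun l => by simp [diagS, eu_apply, hk.symm]
    rw [← Module.End.mul_apply, ← map_mul, wel_qel_comm k _ hS, map_mul, Module.End.mul_apply, hwu, map_smul,
      map_add, map_sum]
    congr 2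
    refine Finset.sum_congr rfl fun s hs => ?_
    rw [hL, gqel _ _ (hsne k s (Finset.ne_of_mem_erase hs))]
    simp [diagS, eu_apply, hk, hk.symm]
  have hu0 : u ∈ ws ψ ρ 0 := by
    have e : wproj ψ ρ 0 u = u := by
      conv_rhs => rw [← sum_wproj (ψ := ψ) (ρ := ρ) hψ h2 u]
      symm
      refine Finset.sum_eq_single (0 : Sym F n) (fun B _ hB => ?_) (fun h => absurd (Finset.mem_univ _) h)
      by_contra hne
      obtain ⟨b, x, rfl⟩ := hlow B _ (wproj_mem B u) hne
      apply hB
      have hd : ∀ k, b * (x k * x k) = 0 := fun k => by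
        rw [← rk1_apply]
        refine eq_of_psi hψ fun c => ?_
        rw [← phi_diagS, phi_eq_of_fixed (by rw [hdiag, one_smul]) hne, zero_mul, AddChar.map_zero_eq_one]
      by_cases hb : b = 0
      · exact Subtype.ext (by simp [rk1, hb])
      · rw [show x = 0 from funext fun k => mul_self_eq_zero.mp ((mul_eq_zero.mp (hd k)).resolve_left hb), rk1_zero]
    rw [← e]; exact wproj_mem _ _
  have hqu : ∀ S, ρ (qel S) u = u := fun S => by rw [hu0 S]; simp [phi]
  have hlu : ∀ B : GL (Fin n) F, ρ (levi B) u = qchi F (B : Matrix (Fin n) (Fin n) F).det • u := by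
    obtain ⟨K, hK⟩ : ∃ K : Subgroup (GL (Fin n) F), ∀ B : GL (Fin n) F, B ∈ K ↔
        ρ (levi B) u = qchi F (B : Matrix (Fin n) (Fin n) F).det • u := by
      refine ⟨{ carrier := {B | ρ (levi B) u = qchi F (B : Matrix (Fin n) (Fin n) F).det • u}
                one_mem' := by simp
                mul_mem' := fun {B C} hB hC => ?_
                inv_mem' := fun {B} hB => ?_ }, fun B => Iff.rfl⟩
      · simp only [Set.mem_setOf_eq] at hB hC ⊢
        rw [map_mul, map_mul, Module.End.mul_apply, hC, map_smul, hB, smul_smul, Units.val_mul, Matrix.det_mul,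
          map_mul, mul_comm]
      · simp only [Set.mem_setOf_eq] at hB ⊢
        have h := congrArg (ρ (levi B⁻¹)) hB
        rw [← Module.End.mul_apply, ← map_mul, ← map_mul, inv_mul_cancel, map_one, map_one, Module.End.one_apply,
          map_smul] at h
        have hne : ((B⁻¹ : GL (Fin n) F) : Matrix (Fin n) (Fin n) F).det * (B : Matrix (Fin n) (Fin n) F).det = 1 := by
          rw [← Matrix.det_mul, B.inv_mul, Matrix.det_one]
        conv_rhs => rw [h, smul_smul, ← map_mul, hne, map_one, one_smul]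
    refine fun B => (hK B).mp (mem_of_fixing K ∅ (fun j _ β => (hK _).mpr ?_) (fun k l hkl _ c => (hK _).mpr ?_) B
      (by simp))
    · rw [det_dg]
      obtain ⟨k, hk⟩ := hother j
      have hc : Carries (dg j β) k k := by
        constructor <;> simp [dg_val, add_mul, mul_add, Matrix.smul_mul, Matrix.mul_smul, eu_mul_ne _ hk.symm,
          eu_mul_ne _ hk]
      have hne : qchi F (β : F) ≠ 0 := fun e => by
        have := qchi_sq β.ne_zero; rw [e, zero_mul] at this; exact zero_ne_one this
      have hgoal : (qchi F (β : F))⁻¹ • ρ (levi (dg j β)) u = u := by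
        refine huniq k _ _ (∑ s ∈ Finset.univ.erase (0 : F), L k s) ?_ (hwu k)
        rw [map_smul, ← Module.End.mul_apply, ← map_mul, ← levi_wel hc, map_mul, Module.End.mul_apply, hwu, map_smul,
          map_add, map_sum, Finset.sum_congr rfl (g := fun s => qchi F (β : F) • L k s) fun s hs => ?_,
          ← Finset.smul_sum, smul_comm, smul_add, smul_smul, inv_mul_cancel₀ hne, one_smul]
        rw [hL, glevi _ _ (hsne k s (Finset.ne_of_mem_erase hs)), det_dg, dg_mulVec]
        congr 2
        funext l; by_cases hl : l = j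
        · subst hl; simp [hk.symm]
        · simp [hl]
      calc ρ (levi (dg j β)) u = qchi F (β : F) • ((qchi F (β : F))⁻¹ • ρ (levi (dg j β)) u) := by
            rw [smul_smul, mul_inv_cancel₀ hne, one_smul]
        _ = _ := by rw [hgoal]
    · rw [det_tr, map_one, one_smul]
      have hTw : ρ (levi (tr k l hkl c)) (ρ (wel k) u) = ρ (wel k) u := by
        rw [← Module.End.mul_apply, ← map_mul, levi_wel_pair l k hkl.symm c, map_mul, Module.End.mul_apply, hqu]
      rw [hwu, map_smul, map_add, map_sum] at hTw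
      have hs : ∀ s ∈ Finset.univ.erase (0 : F), ρ (levi (tr k l hkl c)) (L k s) = L k s := fun s hs => by
        rw [hL, glevi _ _ (hsne k s (Finset.ne_of_mem_erase hs)), det_tr, map_one, one_smul, tr_mulVec]
        simp [hkl.symm]
      rw [Finset.sum_congr rfl hs] at hTw
      exact add_right_cancel (smul_right_injective V hγ hTw)
  -- assembling
  obtain ⟨f, hf⟩ : ∃ f : (Fin n → F) → V, f = fun x => if x = 0 then u else g x := ⟨_, rfl⟩
  have hf0 : f 0 = u := by rw [hf]; simp
  have hfx : ∀ x, x ≠ 0 → f x = g x := fun x hx => by rw [hf]; simp [hx]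
  have hSneg : ∀ j, ∑ s ∈ Finset.univ.erase (0 : F), L j s = ε • ∑ s ∈ Finset.univ.erase (0 : F), L j s := by
    intro j
    conv_lhs => rw [Finset.sum_equiv (Equiv.neg F) (t := Finset.univ.erase (0 : F)) (g := fun s => L j (-s))
      (fun s => by simp) (fun s _ => by simp)]
    rw [Finset.smul_sum]
    refine Finset.sum_congr rfl fun s hs => ?_
    rw [hL, hL, Pi.single_neg, gneg _ (hsne j s (Finset.ne_of_mem_erase hs))]
  refine ⟨ε, f, hε, ?_, ?_, ?_, ?_, fun x hx => hfx x hx ▸ gne x hx, ?_⟩
  · intro x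
    by_cases hx : x = 0
    · subst hx
      rw [neg_zero, hf0]
      rcases hε with e | e
      · rw [e, one_smul]
      · have hz : u = 0 := by
          refine eq_zero_of_wel_eq hψ h2 ha i (ρ := ρ) ?_
          rw [hwu]
          have h1 : (2 : ℂ) • ∑ s ∈ Finset.univ.erase (0 : F), L i s = 0 := by
            have h := hSneg i
            rw [e, neg_one_smul] at h
            rw [two_smul]
            nth_rw 1 [h]
            exact neg_add_cancel _
          rw [(smul_eq_zero.mp h1).resolve_left two_ne_zero, add_zero]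
        rw [hz, smul_zero]
    · rw [hfx _ hx, hfx _ (neg_ne_zero.mpr hx), gneg x hx]
  · intro S x
    by_cases hx : x = 0
    · subst hx; rw [hf0, hqu]; simp
    · rw [hfx _ hx, gqel S x hx]
  · intro B x
    by_cases hx : x = 0
    · subst hx; rw [mulVec_zero, hf0, hlu]
    · rw [hfx _ hx, hfx _ (hne0 B x hx), glevi B x hx]
  · intro j x
    by_cases hk : ∃ k, k ≠ j ∧ x k ≠ 0
    · obtain ⟨k, hkj, hxk⟩ := hk
      rw [hfx x (fun e => hxk (by rw [e]; rfl)), gwel j x ⟨k, hkj, hxk⟩]
      congr 1
      refine Finset.sum_congr rfl fun r _ => ?_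
      rw [hfx _ fun e => hxk (by have := congrFun e k; simpa [hkj] using this)]
    · push Not at hk
      have hupd : ∀ r, Function.update x j r = Pi.single j r := fun r => by
        funext l; by_cases hl : l = j
        · subst hl; simp
        · simp [hl, hk l hl]
      rw [← Finset.add_sum_erase _ _ (Finset.mem_univ (0 : F)), hupd, Pi.single_zero, hf0, mul_zero,
        AddChar.map_zero_eq_one, one_smul,
        Finset.sum_congr rfl (g := fun r => ψ (2 * a * x j * r) • L j r) fun r hr => by
          rw [hupd, hfx _ (hsne j r (Finset.ne_of_mem_erase hr)), hL]]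
      by_cases hxj : x j = 0
      · rw [show x = 0 from funext fun l => by by_cases hl : l = j <;> [rw [hl]; skip] <;> first | exact hxj | exact hk l hl,
          hf0, hwu]
        simp
      · rw [show f x = L j (x j) by rw [hL, hfx x (fun e => hxj (by rw [e]; rfl)), ← hupd (x j), Function.update_eq_self],
          hwL, hUu j _ hxj]
  · intro e1 h0
    rw [hf0] at h0
    have hS : ∑ s ∈ Finset.univ.erase (0 : F), L i s = 0 := by
      have h := hwu i
      rw [h0, map_zero, zero_add] at h
      exact (smul_eq_zero.mp h.symm).resolve_left hγ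
    have h := congrArg (wproj ψ ρ (rk1 a (Pi.single i 1))) hS
    rw [map_zero, map_sum] at h
    have hLm : ∀ s, s ≠ 0 → L i s ∈ ws ψ ρ (rk1 a (Pi.single i s)) := fun s hs S => by
      rw [hL, gqel _ _ (hsne i s hs), phi_rk1]
    have h11 : (1 : F) ≠ -1 := fun e => h2 (by linear_combination e)
    rw [Finset.sum_eq_add_of_mem (1 : F) (-1) (by simp) (by simp) h11 fun s hs hne => ?_] at h
    · rw [wproj_of_mem (hLm 1 one_ne_zero), wproj_of_mem (by
        have := hLm (-1) (neg_ne_zero.mpr one_ne_zero)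
        rwa [Pi.single_neg, rk1_neg] at this), hL, hL, Pi.single_neg, gneg _ (hsne i 1 one_ne_zero), hbase, e1,
        one_smul, ← two_smul ℂ] at h
      exact hvne ((smul_eq_zero.mp h).resolve_left two_ne_zero)
    · refine wproj_of_ne hψ h2 (fun e => ?_) (hLm s (Finset.ne_of_mem_erase hs))
      rcases rk1_inj ha e with h' | h'
      · exact hne.1 (by simpa using (congrFun h' i).symm)
      · have := congrFun h' i
        simp at this
        exact hne.2 (by rw [this, neg_neg])

end Cfsg.Lib.Linear.WeilUnique
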