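import Cfsg.Agent.Lib.Linear.Weil.Odd
import Cfsg.Agent.Lib.Linear.WeilUnique.Model

/-!
# Two models with the same parameters are equivalent
-/

set_option autoImplicit false

namespace Cfsg.Lib.Linear.WeilUnique

open Matrix

variable {F : Type*} [Field F] [Fintype F] [DecidableEq F] {n : ℕ} {V : Type*} [AddCommGroup V] [Module ℂ V]
  {ψ : AddChar F ℂ} {ρ : Sp F n →* Module.End ℂ V} {a : F} {ε : ℂ} {f : (Fin n → F) → V}

theorem IsModel.mem_ws (h : IsModel ψ ρ a ε f) (x : Fin n → F) : f x ∈ ws ψ ρ (rk1 a x) := fun S => by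
  rw [h.qel, phi_rk1]

theorem comb_eq_zero_iff (hψ : ψ.IsPrimitive) (h2 : (2 : F) ≠ 0) (ha : a ≠ 0) (h : IsModel ψ ρ a ε f)
    (c : (Fin n → F) → ℂ) : Fintype.linearCombination ℂ f c = 0 ↔ ∀ x, c x + ε * c (-x) = 0 := by
  rw [Fintype.linearCombination_apply]
  have hswap : ∑ x, c x • f x = ∑ x, (ε * c (-x)) • f x := by
    refine (Fintype.sum_equiv (Equiv.neg _) _ _ fun x => ?_).symm
    rw [Equiv.neg_apply, h.neg, smul_smul, mul_comm]
  constructor
  · intro h0 x
    have e := congrArg (wproj ψ ρ (rk1 a x)) h0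
    rw [map_zero, map_sum] at e
    simp only [map_smul] at e
    have hother : ∀ y, y ≠ x → y ≠ -x → c y • wproj ψ ρ (rk1 a x) (f y) = 0 := fun y hy hy' => by
      rw [wproj_of_ne hψ h2 (fun e => ?_) (h.mem_ws y), smul_zero]
      rcases rk1_inj ha e with e' | e'
      · exact hy e'.symm
      · exact hy' (by rw [e', neg_neg])
    by_cases hx : x = 0
    · subst hx
      rw [Finset.sum_eq_single (0 : Fin n → F) (fun y _ hy => hother y hy (by rwa [neg_zero]))
        (fun h' => absurd (Finset.mem_univ _) h'), wproj_of_mem (h.mem_ws 0), smul_eq_zero] at e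
      rw [neg_zero]
      rcases h.eps with he | he
      · rw [e.resolve_right (h.zero_ne he), mul_zero, add_zero]
      · rw [he, neg_one_mul, add_neg_cancel]
    · have hne : x ≠ -x := fun e' => hx (Weil.neg_fix h2 x e'.symm)
      rw [Finset.sum_eq_add_of_mem x (-x) (Finset.mem_univ _) (Finset.mem_univ _) hne
        (fun y _ hy => hother y hy.1 hy.2), wproj_of_mem (h.mem_ws x), wproj_of_mem (by
          have := h.mem_ws (-x); rwa [rk1_neg] at this), h.neg, smul_smul, ← add_smul, smul_eq_zero] at e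
      rw [← e.resolve_right (h.ne_zero x hx)]
      ring
  · intro h0
    have h2' : (2 : ℂ) • ∑ x, c x • f x = 0 := by
      rw [two_smul]
      nth_rw 2 [hswap]
      rw [← Finset.sum_add_distrib]
      exact Finset.sum_eq_zero fun x _ => by rw [← add_smul, h0, zero_smul]
    exact (smul_eq_zero.mp h2').resolve_left two_ne_zero

/-- The span of a model is invariant. -/
theorem span_invariant (hn : 0 < n) (h : IsModel ψ ρ a ε f) (g : Sp F n) (v : V)
    (hv : v ∈ Submodule.span ℂ (Set.range f)) : ρ g v ∈ Submodule.span ℂ (Set.range f) := by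
  obtain ⟨W, hW⟩ : ∃ W, W = Submodule.span ℂ (Set.range f) := ⟨_, rfl⟩
  rw [← hW] at hv ⊢
  have hgen : ∀ g : Sp F n, (∀ x, ρ g (f x) ∈ W) → ∀ w ∈ W, ρ g w ∈ W := by
    intro g hg w hw
    rw [hW] at hw
    induction hw using Submodule.span_induction with
    | mem y hy => obtain ⟨x, rfl⟩ := hy; exact hg x
    | zero => rw [map_zero]; exact zero_mem _
    | add y z _ _ hy hz => rw [map_add]; exact add_mem hy hz
    | smul c y _ hy => rw [map_smul]; exact W.smul_mem c hy
  obtain ⟨M, hM⟩ : ∃ M : Submonoid (Sp F n), ∀ g, g ∈ M ↔ ∀ w ∈ W, ρ g w ∈ W :=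
    ⟨{ carrier := {g | ∀ w ∈ W, ρ g w ∈ W}
       one_mem' := fun w hw => by rwa [map_one, Module.End.one_apply]
       mul_mem' := fun {g g'} hg hg' w hw => by rw [map_mul, Module.End.mul_apply]; exact hg _ (hg' w hw) },
      fun g => Iff.rfl⟩
  obtain ⟨K, hK⟩ : ∃ K : Subgroup (Sp F n), ∀ g, g ∈ K ↔ g ∈ M :=
    ⟨{ M with
       inv_mem' := fun {g} hg => by
         have := pow_mem (show g ∈ M from hg) (orderOf g - 1)
         rw [pow_sub _ (orderOf_pos g), pow_orderOf_eq_one, pow_one, one_mul] at this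
         exact this }, fun g => Iff.rfl⟩
  have hmem : ∀ g : Sp F n, (∀ x, ρ g (f x) ∈ W) → g ∈ K := fun g hg => (hK g).mpr ((hM g).mpr (hgen g hg))
  have hfW : ∀ x, f x ∈ W := fun x => hW ▸ Submodule.subset_span ⟨x, rfl⟩
  have htop : K = ⊤ := gen_eq_top K hn
    (fun S => hmem _ fun x => by rw [h.qel]; exact W.smul_mem _ (hfW x))
    (fun A => hmem _ fun x => by rw [h.levi]; exact W.smul_mem _ (hfW _))
    (fun j => hmem _ fun x => by
      rw [h.wel]
      exact W.smul_mem _ (W.sum_mem fun r _ => W.smul_mem _ (hfW _)))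
  exact (hM g).mp ((hK g).mp (htop ▸ Subgroup.mem_top g)) v hv

section Two

variable {V' : Type*} [AddCommGroup V'] [Module ℂ V'] {ρ' : Sp F n →* Module.End ℂ V'} {f' : (Fin n → F) → V'}

/-- Two spanning models with the same parameters have the same character. -/
theorem trace_eq (hψ : ψ.IsPrimitive) (h2 : (2 : F) ≠ 0) (hn : 0 < n) (ha : a ≠ 0) (h : IsModel ψ ρ a ε f)
    (h' : IsModel ψ ρ' a ε f') (hs : Submodule.span ℂ (Set.range f) = ⊤)
    (hs' : Submodule.span ℂ (Set.range f') = ⊤) (g : Sp F n) :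
    LinearMap.trace ℂ V (ρ g) = LinearMap.trace ℂ V' (ρ' g) := by
  obtain ⟨Φ, hΦ⟩ : ∃ Φ, Φ = Fintype.linearCombination ℂ f := ⟨_, rfl⟩
  obtain ⟨Φ', hΦ'⟩ : ∃ Φ', Φ' = Fintype.linearCombination ℂ f' := ⟨_, rfl⟩
  have hsurj : Function.Surjective Φ := by
    rw [← LinearMap.range_eq_top, hΦ, Fintype.range_linearCombination, hs]
  have hsurj' : Function.Surjective Φ' := by
    rw [← LinearMap.range_eq_top, hΦ', Fintype.range_linearCombination, hs']
  have hker : LinearMap.ker Φ = LinearMap.ker Φ' := by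
    ext c
    rw [LinearMap.mem_ker, LinearMap.mem_ker, hΦ, hΦ', comb_eq_zero_iff hψ h2 ha h, comb_eq_zero_iff hψ h2 ha h']
  obtain ⟨e, he⟩ : ∃ e : V ≃ₗ[ℂ] V', ∀ c, e (Φ c) = Φ' c := by
    refine ⟨(Φ.quotKerEquivOfSurjective hsurj).symm ≪≫ₗ Submodule.quotEquivOfEq _ _ hker ≪≫ₗ
      Φ'.quotKerEquivOfSurjective hsurj', fun c => ?_⟩
    rw [LinearEquiv.trans_apply, LinearEquiv.trans_apply]
    rw [show (Φ.quotKerEquivOfSurjective hsurj).symm (Φ c) = Submodule.Quotient.mk c from
      (LinearEquiv.symm_apply_eq _).mpr rfl]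
    rfl
  have hef : ∀ x, e (f x) = f' x := fun x => by
    have := he (Pi.single x 1)
    rw [hΦ, hΦ', Fintype.linearCombination_apply_single, Fintype.linearCombination_apply_single, one_smul,
      one_smul] at this
    exact this
  obtain ⟨K, hK⟩ : ∃ K : Subgroup (Sp F n), ∀ g, g ∈ K ↔ ∀ v, e (ρ g v) = ρ' g (e v) :=
    ⟨{ carrier := {g | ∀ v, e (ρ g v) = ρ' g (e v)}
       one_mem' := fun v => by simp
       mul_mem' := fun {g g'} hg hg' v => by
         rw [map_mul, map_mul, Module.End.mul_apply, Module.End.mul_apply, hg, hg']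
       inv_mem' := fun {g} hg v => by
         have := congrArg (ρ' g⁻¹) (hg (ρ g⁻¹ v))
         rw [← Module.End.mul_apply, ← map_mul, mul_inv_cancel, map_one, Module.End.one_apply] at this
         rw [this, ← Module.End.mul_apply, ← map_mul, inv_mul_cancel, map_one, Module.End.one_apply] },
      fun g => Iff.rfl⟩
  have hmem : ∀ g : Sp F n, (∀ x, e (ρ g (f x)) = ρ' g (f' x)) → g ∈ K := by
    intro g hg
    refine (hK g).mpr fun v => ?_
    obtain ⟨c, rfl⟩ := hsurj v
    rw [hΦ, Fintype.linearCombination_apply]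
    simp only [map_sum, map_smul, hg, hef]
  have htop : K = ⊤ := gen_eq_top K hn
    (fun S => hmem _ fun x => by rw [h.qel, h'.qel, map_smul, hef])
    (fun A => hmem _ fun x => by rw [h.levi, h'.levi, map_smul, hef])
    (fun j => hmem _ fun x => by rw [h.wel, h'.wel]; simp only [map_smul, map_sum, hef])
  have hg := (hK g).mp (htop ▸ Subgroup.mem_top g)
  rw [show ρ' g = e.conj (ρ g) from LinearMap.ext fun v' => by
    rw [LinearEquiv.conj_apply_apply, hg, e.apply_symm_apply], LinearMap.trace_conj']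

end Two

open Weil in
/-- The dimension of a spanning model. -/
theorem finrank_model (hψ : ψ.IsPrimitive) (h2 : (2 : F) ≠ 0) (ha : a ≠ 0) (h : IsModel ψ ρ a ε f)
    (hs : Submodule.span ℂ (Set.range f) = ⊤) :
    2 * Module.finrank ℂ V + (if ε = 1 then 0 else 1) = Fintype.card F ^ n + (if ε = 1 then 1 else 0) := by
  classical
  obtain ⟨b, hb⟩ : ∃ b : half (Fin n → F) → V, ∀ p, b p = f p.1 := ⟨_, fun p => rfl⟩
  have hcard := card_half (X := Fin n → F) (neg_fix h2)
  rw [Fintype.card_fun, Fintype.card_fin] at hcard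
  have hbne : ∀ p : half (Fin n → F), p.1 ≠ 0 := fun p e => by
    have := p.2; rw [e, neg_zero] at this; exact lt_irrefl _ this
  have hcover : ∀ x : Fin n → F, x ≠ 0 → ∃ (p : half (Fin n → F)) (c : ℂ), f x = c • b p := fun x hx => by
    rcases lt_or_ge (Fintype.equivFin (Fin n → F) x) (Fintype.equivFin (Fin n → F) (-x)) with hlt | hge
    · exact ⟨⟨x, hlt⟩, 1, by rw [one_smul]; exact (hb ⟨x, hlt⟩).symm⟩
    · refine ⟨⟨-x, ?_⟩, ε, ?_⟩
      · rw [neg_neg]
        exact lt_of_le_of_ne hge fun e => hx (neg_fix h2 x ((Fintype.equivFin _).injective e))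
      · refine Eq.trans ?_ (congrArg (ε • ·) (hb _)).symm
        show f x = ε • f (-x)
        rw [← h.neg, neg_neg]
  have hinj : ∀ p p' : half (Fin n → F), rk1 a p.1 = rk1 a p'.1 → p = p' := fun p p' e => by
    rcases rk1_inj ha e with e' | e'
    · exact Subtype.ext e'
    · exact absurd e' (half_ne_neg p p')
  have hf0 : ε ≠ 1 → f 0 = 0 := fun he => by
    have h1 := h.neg 0
    rw [neg_zero, h.eps.resolve_left he, neg_one_smul] at h1
    have : (2 : ℂ) • f 0 = 0 := by rw [two_smul]; nth_rw 1 [h1]; exact neg_add_cancel _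
    exact (smul_eq_zero.mp this).resolve_left two_ne_zero
  by_cases he : ε = 1
  · obtain ⟨b', hb'⟩ : ∃ b' : Option (half (Fin n → F)) → V, b' = fun o => o.elim (f 0) b := ⟨_, rfl⟩
    have hli : LinearIndependent ℂ b' := by
      rw [Fintype.linearIndependent_iff]
      intro c hc o
      have := eq_zero_of_sum hψ h2 Finset.univ (fun o : Option (half (Fin n → F)) => o.elim 0 fun p => rk1 a p.1)
        (fun o _ o' _ e => ?_) (fun o => c o • b' o) (fun o _ => ?_) hc (Finset.mem_univ o) (ρ := ρ)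
      · refine (smul_eq_zero.mp this).resolve_right ?_
        rw [hb']
        rcases o with _ | p
        · exact h.zero_ne he
        · show b p ≠ 0
          rw [hb]
          exact h.ne_zero _ (hbne p)
      · rcases o with _ | p <;> rcases o' with _ | p'
        · rfl
        · exact absurd e.symm (rk1_ne_zero ha (hbne p'))
        · exact absurd e (rk1_ne_zero ha (hbne p))
        · exact congrArg some (hinj p p' e)
      · refine Submodule.smul_mem _ _ ?_
        rw [hb']
        rcases o with _ | p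
        · have := h.mem_ws 0; rwa [rk1_zero] at this
        · show b p ∈ ws ψ ρ (rk1 a p.1)
          rw [hb]
          exact h.mem_ws _
    have hspan : ⊤ ≤ Submodule.span ℂ (Set.range b') := by
      rw [← hs, Submodule.span_le]
      rintro _ ⟨x, rfl⟩
      by_cases hx : x = 0
      · subst hx; exact Submodule.subset_span ⟨none, by rw [hb']; rfl⟩
      · obtain ⟨p, c, hpc⟩ := hcover x hx
        rw [hpc]
        exact Submodule.smul_mem _ _ (Submodule.subset_span ⟨some p, by rw [hb']; rfl⟩)
    rw [Module.finrank_eq_card_basis (Module.Basis.mk hli hspan), Fintype.card_option, if_pos he, if_pos he]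
    omega
  · have hli : LinearIndependent ℂ b := by
      rw [Fintype.linearIndependent_iff]
      intro c hc p
      have := eq_zero_of_sum hψ h2 Finset.univ (fun p : half (Fin n → F) => rk1 a p.1)
        (fun p _ p' _ e => hinj p p' e) (fun p => c p • b p)
        (fun p _ => Submodule.smul_mem _ _ (hb p ▸ h.mem_ws _)) hc (Finset.mem_univ p) (ρ := ρ)
      exact (smul_eq_zero.mp this).resolve_right (hb p ▸ h.ne_zero _ (hbne p))
    have hspan : ⊤ ≤ Submodule.span ℂ (Set.range b) := by
      rw [← hs, Submodule.span_le]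
      rintro _ ⟨x, rfl⟩
      by_cases hx : x = 0
      · subst hx; rw [hf0 he]; exact zero_mem _
      · obtain ⟨p, c, hpc⟩ := hcover x hx
        rw [hpc]
        exact Submodule.smul_mem _ _ (Submodule.subset_span ⟨p, rfl⟩)
    rw [Module.finrank_eq_card_basis (Module.Basis.mk hli hspan), if_neg he, if_neg he]
    omega

end Cfsg.Lib.Linear.WeilUnique
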