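import Cfsg.Agent.Lib.Linear.SymmCongrClass
import Mathlib.LinearAlgebra.Matrix.GeneralLinearGroup.Defs

/-!
# Congruence classes of symmetric matrices of rank at least two
-/

set_option autoImplicit false

namespace Cfsg.Lib.Linear.WeilUnique.Count

open Matrix

variable {F : Type*} [Field F] {m : ℕ}

/-- The block sum of a scalar and a matrix. -/
def blk (t : F) (R : Matrix (Fin m) (Fin m) F) : Matrix (Fin (m + 1)) (Fin (m + 1)) F :=
  Matrix.of (Fin.cons (Fin.cons t 0) fun a => Fin.cons 0 (R a))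

theorem blk_zero_zero (t : F) (R : Matrix (Fin m) (Fin m) F) : blk t R 0 0 = t := rfl

theorem blk_zero_succ (t : F) (R : Matrix (Fin m) (Fin m) F) (b : Fin m) : blk t R 0 b.succ = 0 := by simp [blk]

theorem blk_succ_zero (t : F) (R : Matrix (Fin m) (Fin m) F) (a : Fin m) : blk t R a.succ 0 = 0 := by simp [blk]

theorem blk_succ_succ (t : F) (R : Matrix (Fin m) (Fin m) F) (a b : Fin m) : blk t R a.succ b.succ = R a b := by
  simp [blk]

theorem blk_mul (s t : F) (R S : Matrix (Fin m) (Fin m) F) : blk s R * blk t S = blk (s * t) (R * S) := by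
  ext a b
  cases a using Fin.cases <;> cases b using Fin.cases <;>
    simp [Matrix.mul_apply, Fin.sum_univ_succ, blk_zero_zero, blk_zero_succ, blk_succ_zero, blk_succ_succ]

theorem blk_transpose (t : F) (R : Matrix (Fin m) (Fin m) F) : (blk t R)ᵀ = blk t Rᵀ := by
  ext a b
  cases a using Fin.cases <;> cases b using Fin.cases <;>
    simp [blk_zero_zero, blk_zero_succ, blk_succ_zero, blk_succ_succ]

theorem blk_one : blk (1 : F) (1 : Matrix (Fin m) (Fin m) F) = 1 := by
  ext a b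
  cases a using Fin.cases <;> cases b using Fin.cases <;>
    simp [blk_zero_zero, blk_zero_succ, blk_succ_zero, blk_succ_succ, Matrix.one_apply,
      (Fin.succ_ne_zero _).symm, Fin.succ_ne_zero]

/-- The value of a quadratic form. -/
def qf {n : ℕ} (M : Matrix (Fin n) (Fin n) F) (v : Fin n → F) : F := v ⬝ᵥ (M *ᵥ v)

theorem qf_congr {n : ℕ} (M B : Matrix (Fin n) (Fin n) F) (v : Fin n → F) :
    qf (Bᵀ * M * B) v = qf M (B *ᵥ v) := SymmCongr.congr_mulVec B M v v

theorem qf_single {n : ℕ} (M : Matrix (Fin n) (Fin n) F) (i : Fin n) : qf M (Pi.single i 1) = M i i := by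
  simp [qf]

/-- A symmetric matrix with no non-zero value vanishes. -/
theorem exists_qf_ne {n : ℕ} (h2 : (2 : F) ≠ 0) {M : Matrix (Fin n) (Fin n) F} (hM : Mᵀ = M) (h0 : M ≠ 0) :
    ∃ v, qf M v ≠ 0 := by
  by_contra hno
  push Not at hno
  refine h0 (Matrix.ext fun a b => ?_)
  have hab := hno (Pi.single a 1 + Pi.single b 1)
  have haa := hno (Pi.single a 1)
  have hbb := hno (Pi.single b 1)
  have hs : M b a = M a b := congrFun (congrFun hM a) b
  simp [qf, mulVec_add] at hab haa hbb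
  rw [haa, hbb, hs, zero_add, add_zero, ← two_mul] at hab
  exact (mul_eq_zero.mp hab).resolve_left h2

theorem transpose_congr {n : ℕ} {M : Matrix (Fin n) (Fin n) F} (hM : Mᵀ = M) (B : Matrix (Fin n) (Fin n) F) :
    (Bᵀ * M * B)ᵀ = Bᵀ * M * B := by
  rw [transpose_mul, transpose_mul, transpose_transpose, hM, mul_assoc]

variable [Fintype F] [DecidableEq F]

/-- The congruence class. -/
noncomputable def cls {n : ℕ} (N : Matrix (Fin n) (Fin n) F) : Finset (Matrix (Fin n) (Fin n) F) := by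
  classical
  exact Finset.univ.filter fun M => ∃ B B' : Matrix (Fin n) (Fin n) F, B * B' = 1 ∧ M = Bᵀ * N * B

theorem mem_cls {n : ℕ} {N M : Matrix (Fin n) (Fin n) F} :
    M ∈ cls N ↔ ∃ B B' : Matrix (Fin n) (Fin n) F, B * B' = 1 ∧ M = Bᵀ * N * B := by
  classical
  rw [cls, Finset.mem_filter]
  exact and_iff_right (Finset.mem_univ M)

theorem cls_congr {n : ℕ} {N M : Matrix (Fin n) (Fin n) F} (hM : M ∈ cls N) {B B' : Matrix (Fin n) (Fin n) F}
    (hB : B * B' = 1) : Bᵀ * M * B ∈ cls N := by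
  obtain ⟨C, C', hC, rfl⟩ := mem_cls.mp hM
  refine mem_cls.mpr ⟨C * B, B' * C', ?_, ?_⟩
  · rw [mul_assoc, ← mul_assoc B, hB, one_mul, hC]
  · rw [transpose_mul]; simp only [mul_assoc]

theorem congr_congr {n : ℕ} {B B' M : Matrix (Fin n) (Fin n) F} (hB : B * B' = 1) :
    B'ᵀ * (Bᵀ * M * B) * B' = M := by
  rw [← mul_assoc, ← mul_assoc, ← transpose_mul, hB, transpose_one, one_mul, mul_assoc, hB, mul_one]

set_option maxHeartbeats 800000 in
/-- A congruence class of rank at least two is large. -/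
theorem cls_ge (h2 : (2 : F) ≠ 0) (hm : 1 ≤ m) (N : Matrix (Fin (m + 1)) (Fin (m + 1)) F) (hN : Nᵀ = N)
    (hrk : ∀ (b : F) (x : Fin (m + 1) → F), N ≠ b • vecMulVec x x) :
    (Fintype.card F ^ (m + 1) - 1) * (Fintype.card F ^ (m + 1) - Fintype.card F) ≤
      2 * (Fintype.card F + 1) * (cls N).card := by
  classical
  obtain ⟨q, hqdef⟩ : ∃ q, q = Fintype.card F := ⟨_, rfl⟩
  rw [← hqdef]
  have hN0 : N ≠ 0 := fun e => hrk 0 0 (by rw [e]; simp)
  -- a congruent block sum
  obtain ⟨t, R, hblk, ht, hR⟩ : ∃ t R, blk t R ∈ cls N ∧ t ≠ 0 ∧ R ≠ 0 := by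
    obtain ⟨v, hv⟩ := exists_qf_ne h2 hN hN0
    obtain ⟨B, B', hB, hBe⟩ := SymmCongr.exists_column v (fun e => hv (by simp [qf, e])) 0
    obtain ⟨M, hM⟩ : ∃ M, M = Bᵀ * N * B := ⟨_, rfl⟩
    have hM00 : M 0 0 ≠ 0 := by rw [← qf_single M 0, hM, qf_congr, hBe]; exact hv
    have hMs : Mᵀ = M := hM ▸ transpose_congr hN B
    obtain ⟨w, hw⟩ : ∃ w : Fin (m + 1) → F, w = fun k => if k = 0 then 0 else -(M 0 k / M 0 0) := ⟨_, rfl⟩
    have hw0 : w 0 = 0 := by rw [hw]; simp
    have hU := CrossCharSymp.rank_one_inverse 0 w (by rw [hw0, add_zero]; exact one_ne_zero)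
    obtain ⟨M', hM'⟩ : ∃ M', M' = (1 + vecMulVec (Pi.single 0 1) w)ᵀ * M * (1 + vecMulVec (Pi.single 0 1) w) := ⟨_, rfl⟩
    have hMmem : M ∈ cls N := mem_cls.mpr ⟨B, B', hB, hM⟩
    have hM'mem : M' ∈ cls N := hM' ▸ cls_congr hMmem hU
    have hM's : M'ᵀ = M' := hM' ▸ transpose_congr hMs _
    have hrow : ∀ k : Fin m, M' 0 k.succ = 0 := fun k => by
      rw [hM', CrossCharSymp.congr_entry, hw0, hw]
      simp only [Fin.succ_ne_zero, if_false, add_zero, one_mul]
      field_simp
      ring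
    obtain ⟨R, hRdef⟩ : ∃ R : Matrix (Fin m) (Fin m) F, R = Matrix.of fun a b => M' a.succ b.succ := ⟨_, rfl⟩
    have heq : M' = blk (M' 0 0) R := by
      ext a b
      cases a using Fin.cases <;> cases b using Fin.cases
      · rfl
      · rw [hrow, blk_zero_succ]
      · rw [blk_succ_zero, ← hM's, Matrix.transpose_apply, hrow]
      · rw [blk_succ_succ, hRdef]; rfl
    refine ⟨M' 0 0, R, heq ▸ hM'mem, ?_, fun hR0 => ?_⟩
    · rw [hM', CrossCharSymp.congr_entry, hw0]
      simpa using hM00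
    · -- otherwise the rank would be one
      obtain ⟨C, C', hC, hCe⟩ := mem_cls.mp hM'mem
      have hone : M' = M' 0 0 • vecMulVec (Pi.single 0 1) (Pi.single 0 1) := by
        conv_lhs => rw [heq, hR0]
        ext a b
        cases a using Fin.cases <;> cases b using Fin.cases <;>
          simp [blk_zero_zero, blk_zero_succ, blk_succ_zero, blk_succ_succ, vecMulVec_apply, Fin.succ_ne_zero]
      apply hrk (M' 0 0) (C'ᵀ *ᵥ Pi.single 0 1)
      rw [← SymmCongr.rank_one_congr, ← hone, hCe, congr_congr hC]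
  obtain ⟨M₀, hM₀⟩ : ∃ M₀, M₀ = blk t R := ⟨_, rfl⟩
  rw [← hM₀] at hblk
  have hRs : Rᵀ = R := by
    obtain ⟨C, C', -, hCe⟩ := mem_cls.mp hblk
    have := transpose_congr hN C
    rw [← hCe, hM₀, blk_transpose] at this
    ext a b
    have e := congrFun (congrFun this a.succ) b.succ
    rwa [blk_succ_succ, blk_succ_succ] at e
  have hM₀s : M₀ᵀ = M₀ := by rw [hM₀, blk_transpose, hRs]
  obtain ⟨w', hw'⟩ := exists_qf_ne h2 hRs hR
  -- many isotropic vectors
  obtain ⟨A, hA⟩ : ∃ A : ℕ, A = (Finset.univ.filter fun v => qf M₀ v ≠ 0).card := ⟨_, rfl⟩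
  have hAle : A + q ^ (m - 1) ≤ q ^ (m + 1) := by
    obtain ⟨Z, hZ⟩ : ∃ Z : Finset (Fin (m + 1) → F), Z = Finset.univ.filter fun v => qf M₀ v = 0 := ⟨_, rfl⟩
    have hsum : Z.card + A = q ^ (m + 1) := by
      rw [hA, hZ, Finset.card_filter_add_card_filter_not, Finset.card_univ, Fintype.card_fun, Fintype.card_fin, hqdef]
    suffices h : q ^ (m + 1) ≤ Z.card * q ^ 2 by
      have e : q ^ (m + 1) = q ^ (m - 1) * q ^ 2 := by rw [← pow_add]; congr 1; omega
      have hq : 0 < q ^ 2 := by rw [hqdef]; exact pow_pos Fintype.card_pos 2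
      have := Nat.le_of_mul_le_mul_right (e ▸ h) hq
      omega
    obtain ⟨v, w, hv, hw, hvw, hwv⟩ : ∃ v w : Fin (m + 1) → F, qf M₀ v ≠ 0 ∧ qf M₀ w ≠ 0 ∧
        v ⬝ᵥ (M₀ *ᵥ w) = 0 ∧ w ⬝ᵥ (M₀ *ᵥ v) = 0 := by
      refine ⟨Pi.single 0 1, Fin.cons 0 w', ?_, ?_, ?_, ?_⟩
      · rw [qf_single, hM₀, blk_zero_zero]; exact ht
      · rw [hM₀]
        simp only [qf, dotProduct, mulVec, Fin.sum_univ_succ, Fin.cons_zero, Fin.cons_succ, blk_succ_succ,
          blk_succ_zero, zero_mul, mul_zero, zero_add]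
        exact hw'
      · simp [hM₀, dotProduct, mulVec, Fin.sum_univ_succ, blk_zero_zero, blk_zero_succ]
      · simp [hM₀, dotProduct, mulVec, Fin.sum_univ_succ, blk_succ_zero, Pi.single_apply]
    have hodd : Fintype.card F % 2 = 1 := FiniteField.odd_card_of_char_ne_two fun hc => h2 (by
      have : CharP F 2 := ringChar.of_eq hc
      exact_mod_cast CharP.cast_eq_zero F 2)
    have hhit : ∀ y, ∃ x z : F, qf M₀ (y + x • v + z • w) = 0 := by
      intro y
      obtain ⟨b1, hb1⟩ : ∃ b1, b1 = y ⬝ᵥ (M₀ *ᵥ v) + v ⬝ᵥ (M₀ *ᵥ y) := ⟨_, rfl⟩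
      obtain ⟨b2, hb2⟩ : ∃ b2, b2 = y ⬝ᵥ (M₀ *ᵥ w) + w ⬝ᵥ (M₀ *ᵥ y) := ⟨_, rfl⟩
      obtain ⟨x, z, hxz⟩ := FiniteField.exists_root_sum_quadratic
        (f := Polynomial.C (qf M₀ v) * Polynomial.X ^ 2 + Polynomial.C b1 * Polynomial.X + Polynomial.C (qf M₀ y))
        (g := Polynomial.C (qf M₀ w) * Polynomial.X ^ 2 + Polynomial.C b2 * Polynomial.X + Polynomial.C 0)
        (Polynomial.degree_quadratic hv) (Polynomial.degree_quadratic hw) hodd
      refine ⟨x, z, ?_⟩
      simp only [Polynomial.eval_add, Polynomial.eval_mul, Polynomial.eval_C, Polynomial.eval_pow, Polynomial.eval_X,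
        add_zero, hb1, hb2, qf] at hxz
      simp only [qf, mulVec_add, mulVec_smul, dotProduct_add, add_dotProduct, dotProduct_smul, smul_dotProduct,
        smul_eq_mul, hvw, hwv]
      linear_combination hxz
    choose x z hxz using hhit
    calc q ^ (m + 1) = (Finset.univ : Finset (Fin (m + 1) → F)).card := by
          rw [Finset.card_univ, Fintype.card_fun, Fintype.card_fin, hqdef]
      _ ≤ (Z ×ˢ (Finset.univ : Finset (F × F))).card := by
          refine Finset.card_le_card_of_injOn (fun y => (y + x y • v + z y • w, x y, z y))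
            (fun y _ => by simp [hZ, hxz y]) fun y _ y' _ e => ?_
          simp only [Prod.mk.injEq] at e
          rw [e.2.1, e.2.2] at e
          exact add_right_cancel (add_right_cancel e.1)
      _ = Z.card * q ^ 2 := by
          rw [Finset.card_product, Finset.card_univ, Fintype.card_prod, hqdef, sq]
  have hAall : ∀ M ∈ cls N, (Finset.univ.filter fun v => qf M v ≠ 0).card = A := by
    intro M hM
    obtain ⟨B, B', hB, rfl⟩ := mem_cls.mp hM
    obtain ⟨C, C', hC, hCe⟩ := mem_cls.mp hblk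
    rw [hA, hCe]
    have hB' : B' * B = 1 := mul_eq_one_comm.mp hB
    have hC' : C' * C = 1 := mul_eq_one_comm.mp hC
    refine Finset.card_bij' (fun v _ => (C' * B) *ᵥ v) (fun v _ => (B' * C) *ᵥ v) (fun v hv => ?_) (fun v hv => ?_)
      (fun v _ => ?_) fun v _ => ?_
    · simp only [Finset.mem_filter, Finset.mem_univ, true_and, qf_congr] at hv ⊢
      rwa [mulVec_mulVec, ← mul_assoc, hC, one_mul]
    · simp only [Finset.mem_filter, Finset.mem_univ, true_and, qf_congr] at hv ⊢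
      rwa [mulVec_mulVec, ← mul_assoc, hB, one_mul]
    · rw [mulVec_mulVec, mul_assoc B', ← mul_assoc C, hC, one_mul, hB', one_mulVec]
    · rw [mulVec_mulVec, mul_assoc C', ← mul_assoc B, hB, one_mul, hC', one_mulVec]
  -- many members with a given non-zero value
  obtain ⟨S, hS⟩ : ∃ S, S = (cls N).filter fun M => M 0 0 ≠ 0 := ⟨_, rfl⟩
  have hSge : (q - 1) * q ^ m * (q ^ m - 1) ≤ 2 * S.card := by
    have hres : ∀ s : F, s ≠ 0 → ∃ R' : Matrix (Fin m) (Fin m) F, R'ᵀ = R' ∧ R' ≠ 0 ∧ blk s R' ∈ cls N := by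
      intro s hs
      obtain ⟨v, hv⟩ := SymmCongr.represents h2 hM₀s 0 (by rw [hM₀, blk_zero_zero]; exact ht)
        (by
          obtain ⟨a, b, hab⟩ : ∃ a b, R a b ≠ 0 := by
            by_contra hc; push Not at hc; exact hR (Matrix.ext hc)
          refine ⟨a.succ, b.succ, ?_⟩
          rw [hM₀, blk_succ_succ, blk_zero_zero, blk_succ_zero, zero_mul]
          exact mul_ne_zero hab ht) s
      obtain ⟨B, B', hB, hBe⟩ := SymmCongr.exists_column v (fun e => hs (by rw [← hv, e, zero_dotProduct])) 0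
      obtain ⟨M, hM⟩ : ∃ M, M = Bᵀ * M₀ * B := ⟨_, rfl⟩
      have hM00 : M 0 0 = s := by rw [← qf_single M 0, hM, qf_congr, hBe]; exact hv
      have hMs : Mᵀ = M := hM ▸ transpose_congr hM₀s B
      obtain ⟨w, hw⟩ : ∃ w : Fin (m + 1) → F, w = fun k => if k = 0 then 0 else -(M 0 k / M 0 0) := ⟨_, rfl⟩
      have hw0 : w 0 = 0 := by rw [hw]; simp
      have hU := CrossCharSymp.rank_one_inverse 0 w (by rw [hw0, add_zero]; exact one_ne_zero)
      obtain ⟨M', hM'⟩ : ∃ M', M' = (1 + vecMulVec (Pi.single 0 1) w)ᵀ * M * (1 + vecMulVec (Pi.single 0 1) w) :=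
        ⟨_, rfl⟩
      have hMmem : M ∈ cls N := hM ▸ cls_congr hblk hB
      have hM'mem : M' ∈ cls N := hM' ▸ cls_congr hMmem hU
      have hM's : M'ᵀ = M' := hM' ▸ transpose_congr hMs _
      have hrow : ∀ k : Fin m, M' 0 k.succ = 0 := fun k => by
        rw [hM', CrossCharSymp.congr_entry, hw0, hw]
        simp only [Fin.succ_ne_zero, if_false, add_zero, one_mul, hM00]
        field_simp
        ring
      have h00 : M' 0 0 = s := by rw [hM', CrossCharSymp.congr_entry, hw0]; simp [hM00]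
      obtain ⟨R', hR'def⟩ : ∃ R' : Matrix (Fin m) (Fin m) F, R' = Matrix.of fun a b => M' a.succ b.succ := ⟨_, rfl⟩
      have heq : M' = blk s R' := by
        ext a b
        cases a using Fin.cases <;> cases b using Fin.cases
        · exact h00
        · rw [hrow, blk_zero_succ]
        · rw [blk_succ_zero, ← hM's, Matrix.transpose_apply, hrow]
        · rw [blk_succ_succ, hR'def]; rfl
      refine ⟨R', ?_, fun hR0 => ?_, heq ▸ hM'mem⟩
      · rw [hR'def]
        ext a b
        exact congrFun (congrFun hM's a.succ) b.succ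
      · obtain ⟨C, C', hC, hCe⟩ := mem_cls.mp hM'mem
        have hone : M' = s • vecMulVec (Pi.single 0 1) (Pi.single 0 1) := by
          conv_lhs => rw [heq, hR0]
          ext a b
          cases a using Fin.cases <;> cases b using Fin.cases <;>
            simp [blk_zero_zero, blk_zero_succ, blk_succ_zero, blk_succ_succ, vecMulVec_apply, Fin.succ_ne_zero]
        apply hrk s (C'ᵀ *ᵥ Pi.single 0 1)
        rw [← SymmCongr.rank_one_congr, ← hone, hCe, congr_congr hC]
    choose R' hR's hR'0 hR'mem using hres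
    obtain ⟨O', hO'⟩ : ∃ O' : {s : F // s ≠ 0} → Finset (Matrix (Fin m) (Fin m) F), O' = fun s => cls (R' s.1 s.2) :=
      ⟨_, rfl⟩
    have hO'card : ∀ s, q ^ m - 1 ≤ 2 * (O' s).card := by
      intro s
      obtain ⟨v, hv⟩ := exists_qf_ne h2 (hR's s.1 s.2) (hR'0 s.1 s.2)
      obtain ⟨k, hk⟩ : ∃ k, v k ≠ 0 := Function.ne_iff.mp fun e => hv (by rw [e]; simp [qf])
      obtain ⟨B, B', hB, hBe⟩ := SymmCongr.exists_column v (fun e => hk (by rw [e]; rfl)) k
      rw [hqdef, hO']
      refine SymmCongr.class_ge h2 (transpose_congr (hR's s.1 s.2) B) k ?_ _ fun C C' hC => ?_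
      · rw [← qf_single (Bᵀ * R' s.1 s.2 * B) k, qf_congr, hBe]; exact hv
      · exact cls_congr (mem_cls.mpr ⟨B, B', hB, rfl⟩) hC
    obtain ⟨P, hP⟩ : ∃ P : Finset (Σ _ : {s : F // s ≠ 0}, (Fin m → F) × Matrix (Fin m) (Fin m) F),
        P = Finset.univ.sigma fun s => Finset.univ ×ˢ O' s := ⟨_, rfl⟩
    have hPcard : (q - 1) * q ^ m * (q ^ m - 1) ≤ 2 * P.card := by
      rw [hP, Finset.card_sigma, Finset.mul_sum]
      refine le_trans (le_of_eq ?_) (Finset.card_nsmul_le_sum Finset.univ _ (q ^ m * (q ^ m - 1)) fun s _ => ?_)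
      · rw [Finset.card_univ, Fintype.card_subtype_compl, Fintype.card_subtype_eq, smul_eq_mul, hqdef, mul_assoc]
      · rw [Finset.card_product, Finset.card_univ, Fintype.card_fun, Fintype.card_fin, ← hqdef]
        calc q ^ m * (q ^ m - 1) ≤ q ^ m * (2 * (O' s).card) := Nat.mul_le_mul_left _ (hO'card s)
          _ = _ := by ring
    refine hPcard.trans (Nat.mul_le_mul_left 2 ?_)
    refine Finset.card_le_card_of_injOn (fun p =>
      (1 + vecMulVec (Pi.single 0 1) (Fin.cons 0 p.2.1))ᵀ * blk p.1.1 p.2.2 *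
        (1 + vecMulVec (Pi.single 0 1) (Fin.cons 0 p.2.1))) (fun p hp => ?_) ?_
    · rw [Finset.mem_coe, hP, Finset.mem_sigma, Finset.mem_product, hO'] at hp
      obtain ⟨C, C', hC, hCe⟩ := mem_cls.mp hp.2.2
      have hU := CrossCharSymp.rank_one_inverse (0 : Fin (m + 1)) (Fin.cons (0 : F) p.2.1) (by simp)
      have hmem : blk p.1.1 p.2.2 ∈ cls N := by
        have hbb : blk (1 : F) C * blk 1 C' = 1 := by rw [blk_mul, hC, one_mul, blk_one]
        have := cls_congr (hR'mem p.1.1 p.1.2) hbb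
        rwa [blk_transpose, blk_mul, blk_mul, one_mul, mul_one, ← hCe] at this
      rw [Finset.mem_coe, hS, Finset.mem_filter]
      refine ⟨cls_congr hmem hU, ?_⟩
      dsimp only
      rw [CrossCharSymp.congr_entry, blk_zero_zero, Fin.cons_zero]
      simpa using p.1.2
    · rintro ⟨s, r, R₁⟩ - ⟨s', r', R₂⟩ - e
      simp only at e
      have h00 := congrFun (congrFun e 0) 0
      simp only [CrossCharSymp.congr_entry, blk_zero_zero, Fin.cons_zero, add_zero, one_mul, mul_zero] at h00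
      obtain rfl : s = s' := Subtype.ext h00
      obtain rfl : r = r' := funext fun k => by
        have hk := congrFun (congrFun e 0) k.succ
        simp only [CrossCharSymp.congr_entry, blk_zero_zero, blk_zero_succ, Fin.cons_zero, Fin.cons_succ, add_zero,
          one_mul, zero_add] at hk
        exact mul_left_cancel₀ s.2 hk
      have hU := CrossCharSymp.rank_one_inverse (0 : Fin (m + 1)) (Fin.cons (0 : F) r) (by simp)
      have e2 := congrArg (fun X => (1 - (1 + (Fin.cons (0 : F) r : Fin (m + 1) → F) 0)⁻¹ • vecMulVec (Pi.single 0 1)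
        (Fin.cons (0 : F) r))ᵀ * X * (1 - (1 + (Fin.cons (0 : F) r : Fin (m + 1) → F) 0)⁻¹ •
        vecMulVec (Pi.single 0 1) (Fin.cons (0 : F) r))) e
      simp only [congr_congr hU] at e2
      obtain rfl : R₁ = R₂ := Matrix.ext fun a b => by
        have := congrFun (congrFun e2 a.succ) b.succ
        rwa [blk_succ_succ, blk_succ_succ] at this
      rfl
  -- double counting
  have hdc : (q ^ (m + 1) - 1) * S.card = (cls N).card * A := by
    have h1 : ∑ v ∈ Finset.univ.erase (0 : Fin (m + 1) → F), ((cls N).filter fun M => qf M v ≠ 0).card =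
        ∑ M ∈ cls N, (Finset.univ.filter fun v => qf M v ≠ 0).card := by
      simp only [Finset.card_filter]
      rw [Finset.sum_comm]
      refine Finset.sum_congr rfl fun M _ => Finset.sum_erase _ ?_
      simp [qf]
    have hLHS : ∀ v ∈ Finset.univ.erase (0 : Fin (m + 1) → F), ((cls N).filter fun M => qf M v ≠ 0).card = S.card := by
      intro v hv
      obtain ⟨B, B', hB, hBe⟩ := SymmCongr.exists_column v (Finset.ne_of_mem_erase hv) 0
      rw [hS]
      refine Finset.card_bij' (fun M _ => Bᵀ * M * B) (fun M _ => B'ᵀ * M * B') (fun M hM => ?_) (fun M hM => ?_)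
        (fun M _ => congr_congr hB) fun M _ => congr_congr (mul_eq_one_comm.mp hB)
      · rw [Finset.mem_filter] at hM ⊢
        refine ⟨cls_congr hM.1 hB, ?_⟩
        rw [← qf_single (Bᵀ * M * B) 0, qf_congr, hBe]
        exact hM.2
      · rw [Finset.mem_filter] at hM ⊢
        refine ⟨cls_congr hM.1 (mul_eq_one_comm.mp hB), ?_⟩
        rw [qf_congr, ← hBe, mulVec_mulVec, mul_eq_one_comm.mp hB, one_mulVec, qf_single]
        exact hM.2
    rw [Finset.sum_congr rfl hLHS, Finset.sum_congr rfl hAall, Finset.sum_const, Finset.sum_const, smul_eq_mul,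
      smul_eq_mul, Finset.card_erase_of_mem (Finset.mem_univ _), Finset.card_univ, Fintype.card_fun, Fintype.card_fin,
      ← hqdef] at h1
    exact h1
  -- arithmetic
  obtain ⟨Q, hQ⟩ : ∃ Q, Q = q ^ (m - 1) := ⟨_, rfl⟩
  have e1 : q ^ m = Q * q := by rw [hQ, ← pow_succ]; congr 1; omega
  have e2 : q ^ (m + 1) = Q * q * q := by rw [pow_succ, e1]
  rw [e2] at hdc hAle ⊢
  rw [e1] at hSge
  rw [← hQ] at hAle
  have hq1 : 1 < q := hqdef ▸ Fintype.one_lt_card
  have hQpos : 0 < Q := hQ ▸ pow_pos (by omega) _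
  have hA2 : A ≤ Q * ((q - 1) * (q + 1)) := by
    have : Q * ((q - 1) * (q + 1)) + Q = Q * q * q := by
      obtain ⟨k, rfl⟩ : ∃ k, q = k + 1 := ⟨q - 1, by omega⟩
      simp only [Nat.add_sub_cancel]; ring
    omega
  have key : (Q * q * q - 1) * ((q - 1) * (Q * q) * (Q * q - 1)) ≤
      2 * ((cls N).card * (Q * ((q - 1) * (q + 1)))) :=
    calc _ ≤ (Q * q * q - 1) * (2 * S.card) := Nat.mul_le_mul_left _ hSge
      _ = 2 * ((cls N).card * A) := by rw [← hdc]; ring
      _ ≤ _ := Nat.mul_le_mul_left _ (Nat.mul_le_mul_left _ hA2)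
  have hsub : Q * q * q - q = q * (Q * q - 1) := by rw [Nat.mul_sub]; ring_nf
  rw [hsub]
  refine Nat.le_of_mul_le_mul_right (c := Q * (q - 1)) ?_ (Nat.mul_pos hQpos (by omega))
  calc _ = (Q * q * q - 1) * ((q - 1) * (Q * q) * (Q * q - 1)) := by ring
    _ ≤ _ := key
    _ = _ := by ring

end Cfsg.Lib.Linear.WeilUnique.Count
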