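import Cfsg.Agent.Lib.Linear.Weil.MinDegree
import Cfsg.Agent.Lib.Linear.WeilUnique.Compare
import Cfsg.Agent.Lib.Linear.WeilUnique.Count

/-!
# Irreducible representations of small degree are of Weil type
-/

set_option autoImplicit false

namespace Cfsg.Lib.Linear.WeilUnique

open Matrix

variable {F : Type*} [Field F] [Fintype F] [DecidableEq F] {n : ℕ} {V : Type*} [AddCommGroup V] [Module ℂ V]
  {ψ : AddChar F ℂ} {ρ : Sp F n →* Module.End ℂ V}

/-- The only invariant subspaces are the two trivial ones. -/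
def Irr (ρ : Sp F n →* Module.End ℂ V) : Prop :=
  ∀ W : Submodule ℂ V, (∀ g, ∀ v ∈ W, ρ g v ∈ W) → W = ⊥ ∨ W = ⊤

theorem eq_of_phi (hψ : ψ.IsPrimitive) (h2 : (2 : F) ≠ 0) {B B' : Sym F n} (h : ∀ S, phi ψ B S = phi ψ B' S) :
    B = B' := by
  refine sub_eq_zero.mp (eq_zero_of_phi hψ h2 fun S => ?_)
  have e : phi ψ (B - B') S * phi ψ B' S = 1 * phi ψ B' S := by
    rw [one_mul, phi_comm (B - B') S, phi_comm B' S, ← phi_add, sub_add_cancel, phi_comm S B, h S]
    exact phi_comm _ _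
  refine mul_right_cancel₀ ?_ e
  intro h0
  have := phi_neg_mul (ψ := ψ) B' S
  rw [h0, mul_zero] at this
  exact zero_ne_one this

/-- Either all weights have rank at most one or the degree is large. -/
theorem lowRank_or_large (hψ : ψ.IsPrimitive) (h2 : (2 : F) ≠ 0) (hn : 2 ≤ n) [FiniteDimensional ℂ V] :
    LowRank ψ ρ ∨ (Fintype.card F ^ n - 1) * (Fintype.card F ^ n - Fintype.card F) ≤
      2 * (Fintype.card F + 1) * Module.finrank ℂ V := by
  classical
  refine or_iff_not_imp_left.mpr fun hlow => ?_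
  simp only [LowRank, not_forall, exists_prop] at hlow
  obtain ⟨B, v, hv, hne, hB⟩ := hlow
  obtain ⟨m, rfl⟩ : ∃ m, n = m + 1 := ⟨n - 1, by omega⟩
  have hbound := Count.cls_ge h2 (by omega) B.1 B.2 fun b x e => hB ⟨b, x, Subtype.ext e⟩
  refine hbound.trans (Nat.mul_le_mul_left _ ?_)
  have hex : ∀ M : ↥(Count.cls B.1), ∃ (S : Sym F (m + 1)) (w : V), S.1 = M.1 ∧ w ∈ ws ψ ρ S ∧ w ≠ 0 := by
    intro M
    obtain ⟨C, C', hC, hCe⟩ := Count.mem_cls.mp M.2
    have hCt : Cᵀ * C'ᵀ = 1 := by rw [← transpose_mul, mul_eq_one_comm.mp hC, transpose_one]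
    obtain ⟨A, hA⟩ : ∃ A : GL (Fin (m + 1)) F, (A : Matrix _ _ F) = Cᵀ :=
      ⟨⟨Cᵀ, C'ᵀ, hCt, mul_eq_one_comm.mp hCt⟩, rfl⟩
    refine ⟨congrB A B, ρ (levi A) v, ?_, levi_mem_ws A hv, fun e => hne ?_⟩
    · show (A : Matrix _ _ F) * B.1 * (A : Matrix _ _ F)ᵀ = M.1
      rw [hA, hCe, transpose_transpose]
    · have := congrArg (ρ (levi A⁻¹)) e
      rwa [← Module.End.mul_apply, ← map_mul, ← map_mul, inv_mul_cancel, map_one, map_one, Module.End.one_apply,
        map_zero] at this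
  choose S w hS hw hw0 using hex
  have hli : LinearIndependent ℂ w := by
    rw [Fintype.linearIndependent_iff]
    intro c hc M
    have := eq_zero_of_sum hψ h2 Finset.univ S
      (fun M _ M' _ e => Subtype.ext (by rw [← hS M, ← hS M', e]))
      (fun M => c M • w M) (fun M _ => Submodule.smul_mem _ _ (hw M)) hc (Finset.mem_univ M)
    exact (smul_eq_zero.mp this).resolve_right (hw0 M)
  simpa using hli.fintype_card_le_finrank

/-- A representation fixed by the radical is trivial. -/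
theorem trivial_of_qel (h2 : (2 : F) ≠ 0) (hn : 2 ≤ n) (h : ∀ S, ρ (qel S) = 1) (g : Sp F n) : ρ g = 1 := by
  obtain ⟨K, hK⟩ : ∃ K : Subgroup (Sp F n), ∀ g, g ∈ K ↔ ρ g = 1 :=
    ⟨ρ.toHomUnits.ker, fun g => by rw [MonoidHom.mem_ker, ← Units.val_inj, MonoidHom.coe_toHomUnits, Units.val_one]⟩
  have hnormal : K.Normal := ⟨fun x hx y => by
    rw [hK, map_mul, map_mul, (hK x).mp hx, mul_one, ← map_mul, mul_inv_cancel, map_one]⟩
  rcases (Weil.sp_perfect h2 hn).2 K hnormal with hc | ht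
  · exfalso
    obtain ⟨j, hj⟩ : ∃ j : Fin n, j = ⟨0, by omega⟩ := ⟨_, rfl⟩
    have hm := Subgroup.mem_center_iff.mp (hc ((hK (qel (diagS j 1))).mpr (h _))) (wel j)
    have hv := congrArg (fun g : Sp F n => g.1 *ᵥ Sum.elim (Pi.single j 1) 0) hm
    simp only [Submonoid.coe_mul, ← mulVec_mulVec, qel_mulVec, wel_mulVec] at hv
    have := congrFun hv (Sum.inl j)
    simp [diagS, eu_apply] at this
  · exact (hK g).mp (ht ▸ Subgroup.mem_top g)

theorem exists_nonsquare (h2 : (2 : F) ≠ 0) : ∃ c : F, c ≠ 0 ∧ ¬IsSquare c := by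
  obtain ⟨c, hc⟩ := FiniteField.exists_nonsquare (two_ne_of_ringChar h2)
  exact ⟨c, fun e => hc (e ▸ IsSquare.zero), hc⟩

theorem square_cases (h2 : (2 : F) ≠ 0) {c : F} (hc : ¬IsSquare c) {b : F} (hb : b ≠ 0) :
    ∃ s : F, s ≠ 0 ∧ (b = s ^ 2 ∨ b = c * s ^ 2) := by
  have hc0 : c ≠ 0 := fun e => hc (e ▸ IsSquare.zero)
  rcases quadraticChar_dichotomy hb with h | h
  · obtain ⟨s, hs⟩ := (quadraticChar_one_iff_isSquare hb).mp h
    exact ⟨s, fun e => hb (by rw [hs, e, zero_mul]), Or.inl (by rw [sq]; exact hs)⟩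
  · have hc' := quadraticChar_neg_one_iff_not_isSquare.mpr hc
    have hbc : quadraticChar F (b * c) = 1 := by rw [map_mul, h, hc', neg_mul_neg, one_mul]
    obtain ⟨s, hs⟩ := (quadraticChar_one_iff_isSquare (mul_ne_zero hb hc0)).mp hbc
    refine ⟨s / c, div_ne_zero (fun e => mul_ne_zero hb hc0 (by rw [hs, e, zero_mul])) hc0, Or.inr ?_⟩
    field_simp
    linear_combination hs

/-- An irreducible non-trivial representation with weights of rank at most one has a spanning model. -/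
theorem exists_spanning_model [FiniteDimensional ℂ V] (hψ : ψ.IsPrimitive) (h2 : (2 : F) ≠ 0) (hn : 2 ≤ n)
    (hirr : Irr ρ) (hlow : LowRank ψ ρ) (hnt : ∃ g, ρ g ≠ 1) {a₀ : F} (ha₀ : a₀ ≠ 0) {c : F} (hc : ¬IsSquare c) :
    ∃ a ε f, (a = a₀ ∨ a = c * a₀) ∧ IsModel ψ ρ a ε f ∧ Submodule.span ℂ (Set.range f) = ⊤ := by
  classical
  have hc0 : c ≠ 0 := fun e => hc (e ▸ IsSquare.zero)
  obtain ⟨i, hi⟩ : ∃ i : Fin n, i = ⟨0, by omega⟩ := ⟨_, rfl⟩
  obtain ⟨B, v, hv, hne, hB⟩ : ∃ B v, v ∈ ws ψ ρ B ∧ v ≠ 0 ∧ B ≠ 0 := by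
    by_contra hno
    push Not at hno
    obtain ⟨g, hg⟩ := hnt
    refine hg (trivial_of_qel h2 hn (fun S => LinearMap.ext fun v => ?_) g)
    conv_rhs => rw [Module.End.one_apply, ← sum_wproj (ψ := ψ) (ρ := ρ) hψ h2 v]
    rw [← sum_wproj (ψ := ψ) (ρ := ρ) hψ h2 v, map_sum, sum_wproj (ψ := ψ) (ρ := ρ) hψ h2 v]
    refine Finset.sum_congr rfl fun B _ => ?_
    by_cases h0 : wproj ψ ρ B v = 0
    · rw [h0, map_zero]
    · rw [wproj_mem B v S, hno B _ (wproj_mem B v) h0]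
      simp [phi]
  obtain ⟨b, x, rfl⟩ := hlow B v hv hne
  have hx : x ≠ 0 := fun e => hB (by rw [e, rk1_zero])
  have hb : b ≠ 0 := fun e => hB (Subtype.ext (by simp [rk1, e]))
  obtain ⟨s, hs0, hs⟩ := square_cases h2 hc (div_ne_zero hb ha₀)
  obtain ⟨a, ha, hab⟩ : ∃ a, (a = a₀ ∨ a = c * a₀) ∧ b = a * s ^ 2 := by
    rcases hs with e | e
    · exact ⟨a₀, Or.inl rfl, by rw [← e]; field_simp⟩
    · exact ⟨c * a₀, Or.inr rfl, by rw [mul_comm c, mul_assoc, ← e]; field_simp⟩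
  have ha0 : a ≠ 0 := fun e => hb (by rw [hab, e, zero_mul])
  obtain ⟨C, C', hC, hCe⟩ := SymmCongr.exists_column (s • x) (smul_ne_zero hs0 hx) i
  obtain ⟨A, hA⟩ : ∃ A : GL (Fin n) F, A = (⟨C, C', hC, mul_eq_one_comm.mp hC⟩ : GL (Fin n) F)⁻¹ := ⟨_, rfl⟩
  have hw : ρ (levi A) v ∈ ws ψ ρ (rk1 a (Pi.single i 1)) := by
    have h := levi_mem_ws A hv
    rw [hab, ← rk1_smul, congrB_rk1] at h
    have e : (A : Matrix (Fin n) (Fin n) F) *ᵥ (s • x) = Pi.single i 1 := by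
      rw [hA, ← hCe, mulVec_mulVec]
      show (C' * C) *ᵥ _ = _
      rw [mul_eq_one_comm.mp hC, one_mulVec]
    rwa [e] at h
  have hw0 : ρ (levi A) v ≠ 0 := fun e => hne (by
    have := congrArg (ρ (levi A⁻¹)) e
    rwa [← Module.End.mul_apply, ← map_mul, ← map_mul, inv_mul_cancel, map_one, map_one, Module.End.one_apply,
      map_zero] at this)
  obtain ⟨ε, f, hf⟩ := exists_model hψ h2 hn hlow ha0 hw hw0
  refine ⟨a, ε, f, ha, hf, (hirr _ (span_invariant (by omega) hf)).resolve_left fun e => ?_⟩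
  have hmem : f (Pi.single i 1) ∈ Submodule.span ℂ (Set.range f) := Submodule.subset_span ⟨_, rfl⟩
  rw [e, Submodule.mem_bot] at hmem
  exact hf.ne_zero _ (by simp) hmem

/-- The two possible degrees. -/
theorem degree_cases {a : F} {ε : ℂ} {f : (Fin n → F) → V} (hψ : ψ.IsPrimitive) (h2 : (2 : F) ≠ 0) (ha : a ≠ 0)
    (h : IsModel ψ ρ a ε f) (hs : Submodule.span ℂ (Set.range f) = ⊤) :
    (ε = 1 ∧ 2 * Module.finrank ℂ V = Fintype.card F ^ n + 1) ∨
      (ε = -1 ∧ 2 * Module.finrank ℂ V + 1 = Fintype.card F ^ n) := by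
  have hd := finrank_model hψ h2 ha h hs
  rcases h.eps with e | e
  · rw [if_pos e, if_pos e, add_zero] at hd
    exact Or.inl ⟨e, hd⟩
  · have : ε ≠ 1 := by rw [e]; norm_num
    rw [if_neg this, if_neg this, add_zero] at hd
    exact Or.inr ⟨e, hd⟩

/-- The central involution in the smaller degree. -/
theorem center_scalar {a : F} {ε : ℂ} {f : (Fin n → F) → V} (hε : ε = -1)
    (h : IsModel ψ ρ a ε f) (hs : Submodule.span ℂ (Set.range f) = ⊤) (v : V) :
    ρ (levi (-1 : GL (Fin n) F)) v = (-qchi F (-1 : Matrix (Fin n) (Fin n) F).det) • v := by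
  have hv : v ∈ Submodule.span ℂ (Set.range f) := hs ▸ Submodule.mem_top
  induction hv using Submodule.span_induction with
  | mem y hy =>
    obtain ⟨x, rfl⟩ := hy
    rw [h.levi, Units.val_neg, Units.val_one, neg_mulVec, one_mulVec, h.neg, hε, smul_smul, mul_neg_one]
  | zero => rw [map_zero, smul_zero]
  | add y z _ _ hy hz => rw [map_add, hy, hz, smul_add]
  | smul r y _ hy => rw [map_smul, hy, smul_comm]

end Cfsg.Lib.Linear.WeilUnique
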