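import Cfsg.Agent.Lib.Linear.CrossCharSymp

/-!
# Elements of the symplectic group used in the classification of its Weil representations

The lower Siegel radical, the Levi complement and the reflections exchanging one position with its
momentum, with the relations between them.
-/

set_option autoImplicit false

namespace Cfsg.Lib.Linear.WeilUnique

open Matrix

variable {F : Type*} [Field F] {n : ℕ}

/-- The symplectic group. -/
abbrev Sp (F : Type*) [Field F] (n : ℕ) : Type _ := ↥(symplecticGroup (Fin n) F)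

/-- The symmetric matrices. -/
abbrev Sym (F : Type*) [Field F] (n : ℕ) : Type _ := ↥(CrossCharSymp.symm F n)

/-- A matrix unit. -/
def eu (i j : Fin n) : Matrix (Fin n) (Fin n) F := Matrix.single i j 1

theorem eu_mul_same (i j k : Fin n) : (eu i j : Matrix (Fin n) (Fin n) F) * eu j k = eu i k := by
  rw [eu, eu, eu, single_mul_single_same, mul_one]

theorem eu_mul_ne (i : Fin n) {j k : Fin n} (h : j ≠ k) (l : Fin n) :
    (eu i j : Matrix (Fin n) (Fin n) F) * eu k l = 0 := single_mul_single_of_ne (h := h) ..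

theorem eu_apply (i j a b : Fin n) : (eu i j : Matrix (Fin n) (Fin n) F) a b = if i = a ∧ j = b then 1 else 0 := by
  rw [eu, Matrix.single_apply]

theorem eu_transpose (i j : Fin n) : (eu i j : Matrix (Fin n) (Fin n) F)ᵀ = eu j i := transpose_single i j 1

/-- An element of the lower Siegel radical. -/
def qel (S : Sym F n) : Sp F n := ⟨fromBlocks 1 0 S.1 1, by
  rw [SymplecticGroup.mem_iff, Matrix.J, fromBlocks_transpose, fromBlocks_multiply, fromBlocks_multiply]
  have h : S.1ᵀ = S.1 := S.2
  simp [h]⟩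

theorem qel_zero : qel (0 : Sym F n) = 1 := Subtype.ext (by simp [qel])

theorem qel_add (S T : Sym F n) : qel (S + T) = qel S * qel T := Subtype.ext (by
  simp [qel, fromBlocks_multiply])

/-- An element of the Levi complement. -/
def levi : GL (Fin n) F →* Sp F n where
  toFun A := ⟨fromBlocks (A : Matrix (Fin n) (Fin n) F) 0 0 ((A⁻¹ : GL (Fin n) F) : Matrix (Fin n) (Fin n) F)ᵀ,
    CrossCharSymp.levi_mem _ _ A.mul_inv⟩
  map_one' := Subtype.ext (by simp)
  map_mul' A B := Subtype.ext (by
    rw [Submonoid.coe_mul, fromBlocks_multiply]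
    simp [transpose_mul])

theorem levi_val (A : GL (Fin n) F) : (levi A).1 =
    fromBlocks (A : Matrix (Fin n) (Fin n) F) 0 0 ((A⁻¹ : GL (Fin n) F) : Matrix (Fin n) (Fin n) F)ᵀ := rfl

/-- The symmetric matrix transported by the Levi complement. -/
def act (A : GL (Fin n) F) (S : Sym F n) : Sym F n :=
  ⟨((A⁻¹ : GL (Fin n) F) : Matrix (Fin n) (Fin n) F)ᵀ * S.1 * ((A⁻¹ : GL (Fin n) F) : Matrix (Fin n) (Fin n) F),
    by
      have := CrossCharSymp.conj_symm ((A⁻¹ : GL (Fin n) F) : Matrix (Fin n) (Fin n) F)ᵀ S.2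
      rwa [transpose_transpose] at this⟩

theorem levi_qel (A : GL (Fin n) F) (S : Sym F n) : levi A * qel S = qel (act A S) * levi A := by
  refine Subtype.ext ?_
  simp only [Submonoid.coe_mul, levi_val, qel, act, fromBlocks_multiply]
  simp [mul_assoc]

/-- The exchange of the position `j` with its momentum. -/
def wel (j : Fin n) : Sp F n := ⟨fromBlocks (1 - eu j j) (-eu j j) (eu j j) (1 - eu j j), by
  rw [SymplecticGroup.mem_iff, Matrix.J, fromBlocks_transpose, fromBlocks_multiply, fromBlocks_multiply]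
  simp [mul_sub, sub_mul, transpose_sub, eu_transpose, eu_mul_same]
  abel⟩

/-- The scaling of one coordinate. -/
def dg (j : Fin n) (β : Fˣ) : GL (Fin n) F where
  val := 1 + ((β : F) - 1) • eu j j
  inv := 1 + (((β⁻¹ : Fˣ) : F) - 1) • eu j j
  val_inv := by
    simp only [add_mul, mul_add, mul_one, one_mul, Matrix.smul_mul, Matrix.mul_smul, eu_mul_same, smul_smul,
      add_assoc, ← add_smul]
    rw [show ((β : F) - 1) + ((((β⁻¹ : Fˣ) : F) - 1) + (((β⁻¹ : Fˣ) : F) - 1) * ((β : F) - 1)) = 0 by
      linear_combination Units.mul_inv β, zero_smul, add_zero]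
  inv_val := by
    simp only [add_mul, mul_add, mul_one, one_mul, Matrix.smul_mul, Matrix.mul_smul, eu_mul_same, smul_smul,
      add_assoc, ← add_smul]
    rw [show (((β⁻¹ : Fˣ) : F) - 1) + (((β : F) - 1) + ((β : F) - 1) * (((β⁻¹ : Fˣ) : F) - 1)) = 0 by
      linear_combination Units.mul_inv β, zero_smul, add_zero]

/-- A transvection. -/
def tr (i j : Fin n) (h : i ≠ j) (c : F) : GL (Fin n) F where
  val := 1 + c • eu i j
  inv := 1 + (-c) • eu i j
  val_inv := by
    simp [add_mul, mul_add, smul_smul, eu_mul_ne _ h.symm]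
  inv_val := by
    simp [add_mul, mul_add, smul_smul, eu_mul_ne _ h.symm]

theorem dg_val (j : Fin n) (β : Fˣ) : (dg j β : Matrix (Fin n) (Fin n) F) = 1 + ((β : F) - 1) • eu j j := rfl

theorem dg_inv_val (j : Fin n) (β : Fˣ) :
    (((dg j β)⁻¹ : GL (Fin n) F) : Matrix (Fin n) (Fin n) F) = 1 + (((β⁻¹ : Fˣ) : F) - 1) • eu j j := rfl

theorem tr_val (i j : Fin n) (h : i ≠ j) (c : F) : (tr i j h c : Matrix (Fin n) (Fin n) F) = 1 + c • eu i j := rfl

theorem tr_inv_val (i j : Fin n) (h : i ≠ j) (c : F) :
    (((tr i j h c)⁻¹ : GL (Fin n) F) : Matrix (Fin n) (Fin n) F) = 1 + (-c) • eu i j := rfl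

theorem tr_add (i j : Fin n) (h : i ≠ j) (c d : F) : tr i j h (c + d) = tr i j h c * tr i j h d := Units.ext (by
  simp [tr_val, add_mul, mul_add, smul_smul, eu_mul_ne _ h.symm, add_smul]
  abel)

theorem tr_zero (i j : Fin n) (h : i ≠ j) : tr (F := F) i j h 0 = 1 := Units.ext (by simp [tr_val])

theorem dg_mul (j : Fin n) (β β' : Fˣ) : dg j (β * β') = dg j β * dg j β' := Units.ext (by
  simp only [Units.val_mul, dg_val, add_mul, mul_add, mul_one, one_mul, Matrix.smul_mul, Matrix.mul_smul,
    eu_mul_same, smul_smul, add_assoc, ← add_smul]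
  congr 2
  ring)

theorem det_dg (j : Fin n) (β : Fˣ) : (dg j β : Matrix (Fin n) (Fin n) F).det = (β : F) := by
  have : (dg j β : Matrix (Fin n) (Fin n) F) = Matrix.diagonal (fun k => if k = j then (β : F) else 1) := by
    rw [dg_val]
    ext a b
    by_cases hab : a = b
    · subst hab
      by_cases ha : a = j
      · subst ha; simp [eu_apply]
      · simp [eu_apply, ha, Ne.symm ha]
    · simp [eu_apply, hab, Matrix.diagonal_apply_ne _ hab]
      intro e1 e2
      exact absurd (e1.symm.trans e2) hab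
  rw [this, Matrix.det_diagonal, Finset.prod_ite_eq' Finset.univ j fun _ => (β : F), if_pos (Finset.mem_univ _)]

theorem det_tr (i j : Fin n) (h : i ≠ j) (c : F) : (tr i j h c : Matrix (Fin n) (Fin n) F).det = 1 := by
  have : (tr i j h c : Matrix (Fin n) (Fin n) F) = Matrix.transvection i j c := by
    rw [tr_val, Matrix.transvection, eu, Matrix.smul_single, smul_eq_mul, mul_one]
  rw [this, Matrix.det_transvection_of_ne _ _ h]

/-- Scaling conjugates a transvection ending at the scaled coordinate. -/
theorem dg_tr_left (i j : Fin n) (h : i ≠ j) (β : Fˣ) (c : F) :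
    dg i β * tr i j h c = tr i j h ((β : F) * c) * dg i β := Units.ext (by
  simp only [Units.val_mul, dg_val, tr_val, add_mul, mul_add, mul_one, one_mul, Matrix.smul_mul, Matrix.mul_smul,
    smul_smul, eu_mul_same, eu_mul_ne _ h.symm, smul_zero, add_zero]
  module)

theorem dg_tr_right (i j : Fin n) (h : i ≠ j) (β : Fˣ) (c : F) :
    dg j β * tr i j h ((β : F) * c) = tr i j h c * dg j β := Units.ext (by
  simp only [Units.val_mul, dg_val, tr_val, add_mul, mul_add, mul_one, one_mul, Matrix.smul_mul, Matrix.mul_smul,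
    smul_smul, eu_mul_same, eu_mul_ne _ h.symm, smul_zero, add_zero]
  module)

theorem wel_sq (j : Fin n) : wel (F := F) j * wel j = levi (dg j (-1)) := by
  refine Subtype.ext ?_
  simp only [Submonoid.coe_mul, levi_val, wel, fromBlocks_multiply, dg_val, dg_inv_val, inv_neg, inv_one,
    Units.val_neg, Units.val_one, transpose_add, transpose_one, transpose_smul, eu_transpose]
  simp [mul_sub, sub_mul, eu_mul_same, add_smul, sub_smul]
  constructor <;> abel

/-- A pair of opposite symmetric matrix units. -/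
def pairS (i j : Fin n) (c : F) : Sym F n := ⟨c • (eu i j + eu j i), by
  show (c • (eu i j + eu j i))ᵀ = _
  simp [transpose_smul, transpose_add, eu_transpose, add_comm]⟩

/-- A diagonal symmetric matrix unit. -/
def diagS (j : Fin n) (c : F) : Sym F n := ⟨c • eu j j, by
  show (c • eu j j)ᵀ = _
  simp [transpose_smul, eu_transpose]⟩

theorem qel_wel_pair (i j : Fin n) (h : i ≠ j) (c : F) :
    qel (pairS i j c) * wel j = wel j * levi (tr j i h.symm c) := by
  refine Subtype.ext ?_
  simp only [Submonoid.coe_mul, levi_val, wel, qel, pairS, fromBlocks_multiply, tr_val, tr_inv_val,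
    transpose_add, transpose_one, transpose_smul, eu_transpose]
  simp [mul_sub, sub_mul, mul_add, add_mul, eu_mul_same, eu_mul_ne _ h, eu_mul_ne _ h.symm, smul_smul]
  constructor <;> abel

theorem levi_wel_pair (i j : Fin n) (h : i ≠ j) (c : F) :
    levi (tr j i h.symm c) * wel j = wel j * qel (pairS i j (-c)) := by
  refine Subtype.ext ?_
  simp only [Submonoid.coe_mul, levi_val, wel, qel, pairS, fromBlocks_multiply, tr_val, tr_inv_val,
    transpose_add, transpose_one, transpose_smul, eu_transpose]
  simp [mul_sub, sub_mul, mul_add, add_mul, eu_mul_same, eu_mul_ne _ h, eu_mul_ne _ h.symm, smul_smul]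
  abel

theorem wel_qel_comm (j : Fin n) (S : Sym F n) (hS : ∀ k, S.1 j k = 0) :
    wel j * qel S = qel S * wel j := by
  have h1 : eu j j * S.1 = 0 := by
    ext a b
    rw [Matrix.mul_apply, Matrix.zero_apply]
    refine Finset.sum_eq_zero fun k _ => ?_
    rw [eu_apply]
    split_ifs with hk
    · rw [← hk.2, hS, mul_zero]
    · rw [zero_mul]
  have h2 : S.1 * eu j j = 0 := by
    have := congrArg Matrix.transpose h1
    rwa [transpose_mul, eu_transpose, transpose_zero, show S.1ᵀ = S.1 from S.2] at this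
  refine Subtype.ext ?_
  simp [wel, qel, fromBlocks_multiply, mul_sub, sub_mul, h1, h2]
  abel

theorem wel_qel_wel (j : Fin n) (s : Fˣ) :
    wel j * qel (diagS j (s : F)) * wel j =
      qel (diagS j (-((s⁻¹ : Fˣ) : F))) * levi (dg j (-s)) * wel j * qel (diagS j (-((s⁻¹ : Fˣ) : F))) := by
  refine Subtype.ext ?_
  simp only [Submonoid.coe_mul, levi_val, wel, qel, diagS, fromBlocks_multiply, dg_val, dg_inv_val,
    Units.val_neg, inv_neg, transpose_add, transpose_one, transpose_smul, eu_transpose]
  simp [mul_sub, sub_mul, mul_add, add_mul, eu_mul_same, smul_smul, add_smul, sub_smul, sub_eq_add_neg]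
  refine ⟨?_, ?_⟩ <;> abel

theorem wel_comm (i j : Fin n) (h : i ≠ j) : wel (F := F) i * wel j = wel j * wel i := by
  refine Subtype.ext ?_
  simp [wel, fromBlocks_multiply, mul_sub, sub_mul, eu_mul_ne _ h, eu_mul_ne _ h.symm]
  refine ⟨?_, ?_, ?_, ?_⟩ <;> abel

/-- `A` carries the coordinate `j` to `j'`, also contragrediently. -/
def Carries (A : GL (Fin n) F) (j j' : Fin n) : Prop :=
  (A : Matrix (Fin n) (Fin n) F) * eu j j = eu j' j ∧ eu j' j' * (A : Matrix (Fin n) (Fin n) F) = eu j' j

theorem levi_wel {A : GL (Fin n) F} {j j' : Fin n} (h : Carries A j j') :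
    levi A * wel j = wel j' * levi A := by
  obtain ⟨h1, h2⟩ := h
  obtain ⟨M, hM⟩ : ∃ M, M = ((A⁻¹ : GL (Fin n) F) : Matrix (Fin n) (Fin n) F) := ⟨_, rfl⟩
  have e1 : M * eu j' j = eu j j := by rw [← h1, hM, ← mul_assoc, A.inv_mul, one_mul]
  have e2 : eu j' j * M = eu j' j' := by rw [← h2, hM, mul_assoc, A.mul_inv, mul_one]
  have e3 : Mᵀ * eu j j = eu j' j := by
    have := congrArg Matrix.transpose (show eu j j * M = eu j j' by
      rw [← eu_mul_same j j' j, mul_assoc, e2, eu_mul_same])
    rwa [transpose_mul, eu_transpose, eu_transpose] at this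
  have e4 : eu j' j' * Mᵀ = eu j' j := by
    have := congrArg Matrix.transpose (show M * eu j' j' = eu j j' by
      rw [← eu_mul_same j' j j', ← mul_assoc, e1, eu_mul_same])
    rwa [transpose_mul, eu_transpose, eu_transpose] at this
  refine Subtype.ext ?_
  simp only [Submonoid.coe_mul, levi_val, wel, fromBlocks_multiply, ← hM]
  simp [mul_sub, sub_mul, h1, h2, e3, e4]

end Cfsg.Lib.Linear.WeilUnique
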