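import Cfsg.Agent.Lib.Linear.WeilUnique.Classify

/-!
# The two halves of the Weil representation
-/

set_option autoImplicit false

namespace Cfsg.Lib.Linear.WeilUnique

open Matrix Weil

variable {F : Type*} [Field F] [Fintype F] [DecidableEq F] {n : ℕ} {ψ : AddChar F ℂ}

theorem pos_elim (p m : Fin n → F) : pos (Sum.elim p m) = p := rfl

theorem mom_elim (p m : Fin n → F) : mom (Sum.elim p m) = m := rfl

theorem piOp_mulVec (v : Fin n ⊕ Fin n → F) (f : (Fin n → F) → ℂ) (x : Fin n → F) :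
    (piOp ψ v *ᵥ f) x = ψ (mom v ⬝ᵥ x + 2⁻¹ * (pos v ⬝ᵥ mom v)) * f (x + pos v) := by
  simp only [mulVec, dotProduct, piOp_apply, ite_mul, zero_mul, Finset.sum_ite_eq', Finset.mem_univ, if_true]

/-- The scalar normalizing an intertwiner. -/
noncomputable def scal (T : Matrix (Fin n → F) (Fin n → F) ℂ) : ℂ := (odd T).det ^ 2 / T.det

theorem exists_full (hψ : ∀ d : F, d ≠ 0 → ∃ c, ψ (d * c) ≠ 1) (h2 : (2 : F) ≠ 0) :
    ∃ ω : Sp F n →* Matrix (Fin n → F) (Fin n → F) ℂ,
      (∀ (g : Sp F n) (T T' : Matrix (Fin n → F) (Fin n → F) ℂ), T * T' = 1 →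
        (∀ u, piOp ψ (g.1 *ᵥ u) * T = T * piOp ψ u) → ω g = scal T • T) ∧
      (∀ g x y, ω g (-x) (-y) = ω g x y) ∧ ∀ g u, piOp ψ (g.1 *ᵥ u) * ω g = ω g * piOp ψ u := by
  choose T T' hTT hT'T hT using fun g : Sp F n => exists_intertwiner hψ h2 g.2
  have key : ∀ (g : Sp F n) (S S' : Matrix (Fin n → F) (Fin n → F) ℂ), S * S' = 1 →
      (∀ u, piOp ψ (g.1 *ᵥ u) * S = S * piOp ψ u) → scal (T g) • T g = scal S • S := by
    intro g S S' hSS hS
    have hT' : ∀ u, T' g * piOp ψ (g.1 *ᵥ u) = piOp ψ u * T' g := by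
      intro u
      calc T' g * piOp ψ (g.1 *ᵥ u)
          = T' g * (piOp ψ (g.1 *ᵥ u) * T g) * T' g := by simp only [mul_assoc, hTT, mul_one]
        _ = (T' g * T g) * (piOp ψ u * T' g) := by rw [hT]; simp only [mul_assoc]
        _ = _ := by rw [hT'T, one_mul]
    obtain ⟨c, hc⟩ := commutant hψ (T' g * S) fun u => by rw [mul_assoc, ← hS, ← mul_assoc, hT', mul_assoc]
    have hST : S = c • T g := by
      have := congrArg (fun A => T g * A) hc
      simp only [← mul_assoc] at this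
      rwa [hTT, one_mul, Matrix.mul_smul, mul_one] at this
    have hc0 : c ≠ 0 := by
      rintro rfl
      rw [zero_smul] at hST
      rw [hST, zero_mul] at hSS
      exact zero_ne_one hSS
    rw [hST, scal, scal, odd_smul, Matrix.det_smul, Matrix.det_smul, smul_smul, ← card_half (neg_fix h2)]
    congr 1
    rw [pow_succ, two_mul, pow_add]
    field_simp
    ring
  refine ⟨{ toFun := fun g => scal (T g) • T g
            map_one' := (key 1 1 1 (mul_one 1) fun u => by
              rw [OneMemClass.coe_one, Matrix.one_mulVec, mul_one, one_mul]).trans (by simp [scal, Weil.odd_one])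
            map_mul' := fun g h => ?_ }, fun g S S' hSS hS => key g S S' hSS hS, fun g x y => ?_, fun g u => ?_⟩
  · rw [key (g * h) (T g * T h) (T' h * T' g) ?_ fun u => ?_, Matrix.smul_mul, Matrix.mul_smul, smul_smul]
    · congr 1
      rw [scal, scal, scal, odd_mul (neg_fix h2) _ _ (intertwiner_parity hψ h2 (hTT h) (hT h)), Matrix.det_mul,
        Matrix.det_mul]
      ring
    · calc T g * T h * (T' h * T' g) = T g * (T h * T' h) * T' g := by simp only [mul_assoc]
        _ = 1 := by rw [hTT, mul_one, hTT]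
    · rw [Submonoid.coe_mul, ← Matrix.mulVec_mulVec, ← mul_assoc, hT, mul_assoc, hT, mul_assoc]
  · show (scal (T g) • T g) (-x) (-y) = (scal (T g) • T g) x y
    rw [Matrix.smul_apply, Matrix.smul_apply, intertwiner_parity hψ h2 (hTT g) (hT g)]
  · show piOp ψ (g.1 *ᵥ u) * (scal (T g) • T g) = scal (T g) • T g * piOp ψ u
    rw [Matrix.mul_smul, Matrix.smul_mul, hT]

/-- The functions of a given parity. -/
def parity (F : Type*) [Field F] (n : ℕ) (ε : ℂ) : Submodule ℂ ((Fin n → F) → ℂ) where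
  carrier := {f | ∀ x, f (-x) = ε * f x}
  zero_mem' := fun x => by simp
  add_mem' := fun {f f'} hf hf' x => by rw [Pi.add_apply, Pi.add_apply, hf x, hf' x, mul_add]
  smul_mem' := fun c f hf x => by rw [Pi.smul_apply, Pi.smul_apply, hf x, smul_eq_mul, smul_eq_mul, mul_left_comm]

variable (ω : Sp F n →* Matrix (Fin n → F) (Fin n → F) ℂ) (hω : ∀ g x y, ω g (-x) (-y) = ω g x y) (ε : ℂ)

theorem parity_invariant (hω : ∀ g x y, ω g (-x) (-y) = ω g x y) (g : Sp F n) {f : (Fin n → F) → ℂ}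
    (hf : f ∈ parity F n ε) : ω g *ᵥ f ∈ parity F n ε := fun x => by
  simp only [mulVec, dotProduct, Finset.mul_sum]
  refine Fintype.sum_equiv (Equiv.neg _) _ _ fun y => ?_
  rw [Equiv.neg_apply, hf y, ← hω g x (-y), neg_neg]
  rcases eq_or_ne ε 0 with rfl | h
  · have := hf y; rw [zero_mul] at this
    have h2 := hf (-y); rw [zero_mul, neg_neg] at h2
    simp [h2]
  · have h1 : f y = ε * (ε * f y) := by
      have := hf (-y); rwa [neg_neg, hf y] at this
    linear_combination (ω g (-x) y) * h1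

/-- A half of the Weil representation. -/
noncomputable def halfRep : Sp F n →* Module.End ℂ (parity F n ε) where
  toFun g := (Matrix.mulVecLin (ω g)).restrict fun f hf => parity_invariant ω ε hω g hf
  map_one' := LinearMap.ext fun f => Subtype.ext (by simp)
  map_mul' g h := LinearMap.ext fun f => Subtype.ext (by
    show ω (g * h) *ᵥ f.1 = ω g *ᵥ (ω h *ᵥ f.1)
    rw [map_mul, Matrix.mulVec_mulVec])

theorem halfRep_val (g : Sp F n) (f : parity F n ε) : (halfRep ω hω ε g f).1 = ω g *ᵥ f.1 := rfl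

/-- The function supported on a pair of opposite points. -/
noncomputable def pairFun (ε : ℂ) (x : Fin n → F) : (Fin n → F) → ℂ := Pi.single x 1 + ε • Pi.single (-x) 1

theorem pairFun_mem {ε : ℂ} (hε : ε * ε = 1) (x : Fin n → F) : pairFun ε x ∈ parity F n ε := fun y => by
  simp only [pairFun, Pi.add_apply, Pi.smul_apply, smul_eq_mul, Pi.single_apply, neg_inj, neg_eq_iff_eq_neg, neg_neg]
  split_ifs <;> simp [mul_add, hε, add_comm, ← mul_assoc]

section Facts

variable {ω}

theorem omega_qel (hψ : ∀ d : F, d ≠ 0 → ∃ c, ψ (d * c) ≠ 1) (h2 : (2 : F) ≠ 0)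
    (hkey : ∀ (g : Sp F n) (T T' : Matrix (Fin n → F) (Fin n → F) ℂ), T * T' = 1 →
      (∀ u, piOp ψ (g.1 *ᵥ u) * T = T * piOp ψ u) → ω g = scal T • T) (S : Sym F n) :
    ω (qel S) = Matrix.diagonal fun x => ψ (-(2⁻¹ * (x ⬝ᵥ S.1 *ᵥ x))) := by
  obtain ⟨φ, hφ⟩ : ∃ φ : (Fin n → F) → ℂ, ∀ x, φ x = ψ (-(2⁻¹ * (x ⬝ᵥ S.1 *ᵥ x))) := ⟨_, fun x => rfl⟩
  rw [← show φ = fun x => ψ (-(2⁻¹ * (x ⬝ᵥ S.1 *ᵥ x))) from funext hφ]
  have hne : ∀ x, φ x ≠ 0 := fun x => by rw [hφ]; exact (AddChar.val_isUnit ψ _).ne_zero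
  rw [hkey (qel S) (Matrix.diagonal φ) (Matrix.diagonal fun x => (φ x)⁻¹) (by
      rw [Matrix.diagonal_mul_diagonal, ← Matrix.diagonal_one]; congr 1; funext x; exact mul_inv_cancel₀ (hne x))
    fun u => by rw [show φ = fun x => ψ (-(2⁻¹ * (x ⬝ᵥ S.1 *ᵥ x))) from funext hφ]; exact lower_intertwiner h2 _ S.2 u]
  have hodd : odd (Matrix.diagonal φ) = Matrix.diagonal fun p : half (Fin n → F) => φ p.1 := by
    ext p r
    rw [odd, Matrix.of_apply, Matrix.diagonal_apply_ne _ (half_ne_neg p r), sub_zero]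
    by_cases h : p = r
    · subst h; simp
    · rw [Matrix.diagonal_apply_ne _ h, Matrix.diagonal_apply_ne _ fun e => h (Subtype.ext e)]
  have heven : ∀ x, φ (-x) = φ x := fun x => by
    rw [hφ, hφ, Matrix.mulVec_neg, neg_dotProduct, dotProduct_neg, neg_neg]
  have hprod : ∏ x, φ x = (∏ p : half (Fin n → F), φ p.1) ^ 2 := by
    have h := sum_split (X := Fin n → F) (neg_fix h2) (fun x => Additive.ofMul (φ x))
    have h' := congrArg Additive.toMul h
    simp only [toMul_sum, toMul_add, toMul_ofMul] at h'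
    rw [h', sq, ← Finset.prod_mul_distrib]
    simp [heven, hφ]
  rw [scal, hodd, Matrix.det_diagonal, Matrix.det_diagonal, ← hprod,
    div_self (Finset.prod_ne_zero_iff.mpr fun x _ => hne x), one_smul]

theorem omega_neg (h2 : (2 : F) ≠ 0)
    (hkey : ∀ (g : Sp F n) (T T' : Matrix (Fin n → F) (Fin n → F) ℂ), T * T' = 1 →
      (∀ u, piOp ψ (g.1 *ᵥ u) * T = T * piOp ψ u) → ω g = scal T • T) :
    ∃ s : ℂ, s ≠ 0 ∧ ∀ (f : (Fin n → F) → ℂ) x, (ω (levi (-1 : GL (Fin n) F)) *ᵥ f) x = s * f (-x) := by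
  obtain ⟨P, hP⟩ : ∃ P : Matrix (Fin n → F) (Fin n → F) ℂ, P = Matrix.of fun x y => if y = -x then 1 else 0 :=
    ⟨_, rfl⟩
  have hl : ∀ (A : Matrix (Fin n → F) (Fin n → F) ℂ) x y, (P * A) x y = A (-x) y := fun A x y => by
    rw [Matrix.mul_apply, Finset.sum_eq_single (-x)]
    · simp [hP]
    · intro z _ hz; simp [hP, hz]
    · simp
  have hr : ∀ (A : Matrix (Fin n → F) (Fin n → F) ℂ) x y, (A * P) x y = A x (-y) := fun A x y => by
    rw [Matrix.mul_apply, Finset.sum_eq_single (-y)]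
    · simp [hP]
    · intro z _ hz
      simp only [hP, Matrix.of_apply]
      rw [if_neg (fun e => hz (by rw [e, neg_neg])), mul_zero]
    · simp
  have hPP : P * P = 1 := by
    ext x y
    rw [hl, hP, Matrix.of_apply, neg_neg, Matrix.one_apply]
    simp [eq_comm]
  have hint : ∀ u, piOp ψ ((levi (-1 : GL (Fin n) F)).1 *ᵥ u) * P = P * piOp ψ u := by
    intro u
    obtain ⟨p, m, rfl⟩ : ∃ p m, u = Sum.elim p m := ⟨u ∘ Sum.inl, u ∘ Sum.inr, (Sum.elim_comp_inl_inr u).symm⟩
    ext x y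
    rw [hr, hl, levi_mulVec, show ((-1 : GL (Fin n) F)⁻¹) = -1 by simp]
    simp only [Units.val_neg, Units.val_one, transpose_neg, transpose_one, neg_mulVec, one_mulVec, piOp_apply,
      pos_elim, mom_elim]
    refine if_congr ?_ ?_ rfl
    · constructor <;> intro e
      · rw [← neg_neg y, e]; abel
      · rw [e]; abel
    · congr 1
      simp only [neg_dotProduct, dotProduct_neg, neg_neg]
  refine ⟨scal P, ?_, fun f x => ?_⟩
  · have hdet : P.det ≠ 0 := fun e => by
      have := congrArg Matrix.det hPP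
      rw [Matrix.det_mul, e, zero_mul, Matrix.det_one] at this
      exact zero_ne_one this
    have hodd : odd P = -1 := by
      ext p r
      rw [odd, Matrix.of_apply, hP, Matrix.of_apply, Matrix.of_apply, if_neg, Matrix.neg_apply, Matrix.one_apply]
      · by_cases h : p = r
        · subst h; simp
        · rw [if_neg, if_neg h]
          · simp
          · exact fun e => h (Subtype.ext (neg_injective e)).symm
      · intro e
        exact half_ne_neg r p e
    rw [scal, hodd, Matrix.det_neg, Matrix.det_one, mul_one]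
    exact div_ne_zero (pow_ne_zero _ (pow_ne_zero _ (by norm_num))) hdet
  · rw [hkey _ P P hPP hint, Matrix.smul_mulVec, Pi.smul_apply, smul_eq_mul]
    congr 1
    simp only [mulVec, dotProduct, hP, Matrix.of_apply, ite_mul, one_mul, zero_mul, Finset.sum_ite_eq',
      Finset.mem_univ, if_true]

/-- The Weil representation fixes no non-zero vector. -/
theorem no_fixed (hψ : ψ.IsPrimitive) (h2 : (2 : F) ≠ 0) (hn : 0 < n)
    (hqel : ∀ S : Sym F n, ω (qel S) = Matrix.diagonal fun x => ψ (-(2⁻¹ * (x ⬝ᵥ S.1 *ᵥ x))))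
    (hint : ∀ g u, piOp ψ ((g : Sp F n).1 *ᵥ u) * ω g = ω g * piOp ψ u)
    (f : (Fin n → F) → ℂ) (hf : ∀ g, ω g *ᵥ f = f) : f = 0 := by
  have hsupp : ∀ x, x ≠ 0 → f x = 0 := by
    intro x hx
    by_contra hfx
    refine rk1_ne_zero (neg_ne_zero.mpr (inv_ne_zero h2)) hx (eq_zero_of_phi hψ h2 fun S => ?_)
    have h := congrFun (hf (qel S)) x
    rw [hqel, Matrix.mulVec_diagonal] at h
    rw [phi_rk1, neg_mul]
    exact mul_right_cancel₀ hfx (h.trans (one_mul _).symm)
  obtain ⟨j, hj⟩ : ∃ j : Fin n, j = ⟨0, hn⟩ := ⟨_, rfl⟩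
  funext x
  by_cases hx : x = 0
  swap
  · exact hsupp x hx
  subst hx
  by_contra h0
  -- a momentum fixes the point mass at the origin, its image does not
  obtain ⟨u, hu⟩ : ∃ u : Fin n ⊕ Fin n → F, u = Sum.elim (0 : Fin n → F) (Pi.single j 1) := ⟨_, rfl⟩
  have hpu : piOp ψ u *ᵥ f = f := by
    funext x
    rw [piOp_mulVec, hu, pos_elim, mom_elim]
    by_cases hx : x = 0
    · subst hx; simp
    · rw [add_zero, hsupp x hx, mul_zero]
  have h := congrArg (· *ᵥ f) (hint (wel j) u)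
  simp only [← mulVec_mulVec, hf (wel j), hpu] at h
  have h' := congrFun h (Pi.single j 1)
  rw [hu, wel_mulVec] at h'
  simp only [Pi.single_eq_same, Pi.zero_apply] at h'
  rw [hsupp _ (by simp)] at h'
  rw [piOp_mulVec, pos_elim, mom_elim, show (Pi.single j 1 + Function.update (0 : Fin n → F) j (-1) : Fin n → F) = 0 by
    funext k; by_cases hk : k = j
    · subst hk; simp
    · simp [hk]] at h'
  exact mul_ne_zero (AddChar.val_isUnit ψ _).ne_zero h0 h'

end Facts

end Cfsg.Lib.Linear.WeilUnique
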