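import Mathlib.NumberTheory.GaussSum
import Mathlib.NumberTheory.LegendreSymbol.QuadraticChar.Basic
import Mathlib.Analysis.Complex.Basic

/-!
# Quadratic Gauss sums
-/

set_option autoImplicit false

namespace Cfsg.Lib.Linear.WeilUnique

variable {F : Type*} [Field F] [Fintype F] [DecidableEq F]

/-- The quadratic character with complex values. -/
noncomputable def qchi (F : Type*) [Field F] [Fintype F] [DecidableEq F] : MulChar F ℂ :=
  (quadraticChar F).ringHomComp (Int.castRingHom ℂ)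

/-- The quadratic Gauss sum. -/
noncomputable def qsum (ψ : AddChar F ℂ) (b : F) : ℂ := ∑ r, ψ (b * r ^ 2)

theorem qchi_apply (b : F) : qchi F b = ((quadraticChar F b : ℤ) : ℂ) := rfl

theorem qchi_sq {b : F} (hb : b ≠ 0) : qchi F b * qchi F b = 1 := by
  rw [qchi_apply, ← Int.cast_mul, ← sq, quadraticChar_sq_one hb, Int.cast_one]

theorem two_ne_of_ringChar (h2 : (2 : F) ≠ 0) : ringChar F ≠ 2 := fun hc => h2 (by
  have : CharP F 2 := ringChar.of_eq hc
  exact_mod_cast CharP.cast_eq_zero F 2)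

theorem sum_mul_psi {ψ : AddChar F ℂ} (hψ : ψ.IsPrimitive) (b : F) :
    ∑ r, ψ (b * r) = if b = 0 then (Fintype.card F : ℂ) else 0 := by
  have := AddChar.sum_mulShift b hψ
  simp only [mul_comm _ b] at this
  rw [this]
  push_cast
  rfl

theorem qsum_eq {ψ : AddChar F ℂ} (hψ : ψ.IsPrimitive) (h2 : (2 : F) ≠ 0) {b : F} (hb : b ≠ 0) :
    qsum ψ b = qchi F b * gaussSum (qchi F) ψ := by
  classical
  have hsqs : ∀ z : F, ((Finset.univ.filter fun r : F => r ^ 2 = z).card : ℂ) = qchi F z + 1 := fun z => by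
    have h := quadraticChar_card_sqrts (two_ne_of_ringChar h2) z
    have e : (Finset.univ.filter fun r : F => r ^ 2 = z) = {x : F | x ^ 2 = z}.toFinset := by
      ext r; simp
    rw [e, qchi_apply]
    exact_mod_cast congrArg (Int.cast : ℤ → ℂ) h
  have h1 : qsum ψ b = ∑ z, (qchi F z + 1) * ψ (b * z) := by
    rw [qsum, ← Finset.sum_fiberwise Finset.univ (fun r : F => r ^ 2) fun r => ψ (b * r ^ 2)]
    refine Finset.sum_congr rfl fun z _ => ?_
    rw [Finset.sum_congr rfl (g := fun _ => ψ (b * z)) fun r hr => by rw [(Finset.mem_filter.mp hr).2],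
      Finset.sum_const, nsmul_eq_mul, hsqs]
  simp only [add_mul, one_mul, Finset.sum_add_distrib, sum_mul_psi hψ, if_neg hb, add_zero] at h1
  rw [h1, ← gaussSum_mulShift (qchi F) ψ (Units.mk0 b hb), ← mul_assoc, Units.val_mk0, qchi_sq hb, one_mul]
  simp [gaussSum, AddChar.mulShift_apply]

theorem qchi_ne_one (h2 : (2 : F) ≠ 0) : qchi F ≠ 1 := by
  obtain ⟨a, ha⟩ := quadraticChar_exists_neg_one (two_ne_of_ringChar h2)
  intro e
  have ha0 : a ≠ 0 := fun e0 => by rw [e0, quadraticChar_zero] at ha; omega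
  have h := DFunLike.congr_fun e a
  rw [qchi_apply, ha, MulChar.one_apply (Ne.isUnit ha0)] at h
  norm_num at h

theorem gauss_sq {ψ : AddChar F ℂ} (hψ : ψ.IsPrimitive) (h2 : (2 : F) ≠ 0) :
    gaussSum (qchi F) ψ ^ 2 = qchi F (-1) * (Fintype.card F : ℂ) :=
  gaussSum_sq (qchi_ne_one h2) ((quadraticChar_isQuadratic F).comp _) hψ

theorem qsum_ne_zero {ψ : AddChar F ℂ} (hψ : ψ.IsPrimitive) (h2 : (2 : F) ≠ 0) {b : F} (hb : b ≠ 0) :
    qsum ψ b ≠ 0 := by
  rw [qsum_eq hψ h2 hb]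
  refine mul_ne_zero (fun e => ?_) fun e => ?_
  · have := qchi_sq hb; rw [e, zero_mul] at this; exact zero_ne_one this
  · have := gauss_sq hψ h2
    rw [e, zero_pow (by norm_num : (2 : ℕ) ≠ 0)] at this
    have h1 := qchi_sq (F := F) (neg_ne_zero.mpr one_ne_zero)
    rcases mul_eq_zero.mp this.symm with h | h
    · rw [h, zero_mul] at h1; exact zero_ne_one h1
    · exact Fintype.card_ne_zero (Nat.cast_eq_zero.mp h)

theorem qsum_mul {ψ : AddChar F ℂ} (hψ : ψ.IsPrimitive) (h2 : (2 : F) ≠ 0) {b β : F} (hb : b ≠ 0) (hβ : β ≠ 0) :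
    qsum ψ (b * β) = qchi F β * qsum ψ b := by
  rw [qsum_eq hψ h2 (mul_ne_zero hb hβ), qsum_eq hψ h2 hb, map_mul]
  ring

/-- The constant of the Fourier transform belonging to a parameter. -/
noncomputable def gam (ψ : AddChar F ℂ) (a : F) : ℂ := (qsum ψ (-a))⁻¹

theorem gam_ne_zero {ψ : AddChar F ℂ} (hψ : ψ.IsPrimitive) (h2 : (2 : F) ≠ 0) {a : F} (ha : a ≠ 0) :
    gam ψ a ≠ 0 := inv_ne_zero (qsum_ne_zero hψ h2 (neg_ne_zero.mpr ha))

theorem gam_sq {ψ : AddChar F ℂ} (hψ : ψ.IsPrimitive) (h2 : (2 : F) ≠ 0) {a : F} (ha : a ≠ 0) :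
    gam ψ a ^ 2 * (Fintype.card F : ℂ) = qchi F (-1) := by
  have hm := qchi_sq (F := F) (neg_ne_zero.mpr one_ne_zero)
  have hq : (Fintype.card F : ℂ) ≠ 0 := Nat.cast_ne_zero.mpr Fintype.card_ne_zero
  rw [gam, inv_pow, qsum_eq hψ h2 (neg_ne_zero.mpr ha), mul_pow, sq (qchi F (-a)), qchi_sq (neg_ne_zero.mpr ha),
    one_mul, gauss_sq hψ h2, mul_inv, mul_assoc, inv_mul_cancel₀ hq, mul_one, inv_eq_of_mul_eq_one_right hm]

theorem gam_pow_four {ψ : AddChar F ℂ} (hψ : ψ.IsPrimitive) (h2 : (2 : F) ≠ 0) {a : F} (ha : a ≠ 0) :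
    gam ψ a ^ 4 ≠ 1 := by
  intro e
  have h := gam_sq hψ h2 ha
  have h4 : (gam ψ a ^ 2 * (Fintype.card F : ℂ)) * (gam ψ a ^ 2 * (Fintype.card F : ℂ)) = 1 := by
    rw [h]; exact qchi_sq (neg_ne_zero.mpr one_ne_zero)
  have : ((Fintype.card F * Fintype.card F : ℕ) : ℂ) = ((1 : ℕ) : ℂ) := by
    push_cast
    linear_combination h4 - (Fintype.card F : ℂ) * (Fintype.card F : ℂ) * e
  have := Nat.cast_injective this
  have := Fintype.one_lt_card (α := F)
  nlinarith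

end Cfsg.Lib.Linear.WeilUnique
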