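import Cfsg.Agent.Lib.Linear.WeilUnique.Elem
import Cfsg.Agent.Lib.Linear.SymmCongrClass
import Cfsg.Agent.Lib.Linear.SymplecticGroup

/-!
# Generation of the linear and symplectic groups by the elements used here
-/

set_option autoImplicit false

namespace Cfsg.Lib.Linear.WeilUnique

open Matrix

variable {F : Type*} [Field F] {n : ℕ}

theorem eu_mulVec (i j : Fin n) (x : Fin n → F) : eu i j *ᵥ x = Pi.single i (x j) := by
  funext a
  simp only [mulVec, dotProduct, eu_apply]
  rw [Finset.sum_eq_single j]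
  · by_cases ha : i = a
    · subst ha; simp
    · simp [ha, Ne.symm ha]
  · intro b _ hb; simp [Ne.symm hb]
  · simp

theorem dg_mulVec (j : Fin n) (β : Fˣ) (x : Fin n → F) :
    (dg j β : Matrix (Fin n) (Fin n) F) *ᵥ x = Function.update x j ((β : F) * x j) := by
  rw [dg_val, add_mulVec, one_mulVec, smul_mulVec, eu_mulVec]
  funext a
  by_cases ha : a = j
  · subst ha; simp; ring
  · simp [ha]

theorem tr_mulVec (i j : Fin n) (h : i ≠ j) (c : F) (x : Fin n → F) :
    (tr i j h c : Matrix (Fin n) (Fin n) F) *ᵥ x = x + Pi.single i (c * x j) := by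
  rw [tr_val, add_mulVec, one_mulVec, smul_mulVec, eu_mulVec, ← Pi.single_smul, smul_eq_mul]

theorem levi_mulVec (A : GL (Fin n) F) (p m : Fin n → F) :
    (levi A).1 *ᵥ Sum.elim p m = Sum.elim ((A : Matrix (Fin n) (Fin n) F) *ᵥ p)
      (((A⁻¹ : GL (Fin n) F) : Matrix (Fin n) (Fin n) F)ᵀ *ᵥ m) := by
  rw [levi_val, fromBlocks_mulVec]
  simp [Function.comp_def]

theorem qel_mulVec (S : Sym F n) (p m : Fin n → F) :
    (qel S).1 *ᵥ Sum.elim p m = Sum.elim p (S.1 *ᵥ p + m) := by
  simp [qel, fromBlocks_mulVec, Function.comp_def]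

theorem wel_mulVec (j : Fin n) (p m : Fin n → F) :
    (wel j).1 *ᵥ Sum.elim p m = Sum.elim (Function.update p j (-m j)) (Function.update m j (p j)) := by
  simp only [wel, fromBlocks_mulVec, Function.comp_def, Sum.elim_inl, Sum.elim_inr]
  congr 1 <;> funext a <;> by_cases ha : a = j
  all_goals simp [sub_mulVec, neg_mulVec, eu_mulVec, ha]

/-- A subgroup containing the scalings and transvections away from some coordinates contains their fixer. -/
theorem mem_of_fixing (K : Subgroup (GL (Fin n) F)) (T₀ : Finset (Fin n))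
    (hdg : ∀ j, j ∉ T₀ → ∀ β, dg j β ∈ K) (htr : ∀ i j (h : i ≠ j), j ∉ T₀ → ∀ c, tr i j h c ∈ K) :
    ∀ A : GL (Fin n) F, (∀ t ∈ T₀, (A : Matrix (Fin n) (Fin n) F) *ᵥ Pi.single t 1 = Pi.single t 1) → A ∈ K := by
  classical
  suffices H : ∀ (r : ℕ) (T : Finset (Fin n)) (A : GL (Fin n) F), Tᶜ.card = r → T₀ ⊆ T →
      (∀ t ∈ T, (A : Matrix (Fin n) (Fin n) F) *ᵥ Pi.single t 1 = Pi.single t 1) → A ∈ K from
    fun A hA => H _ T₀ A rfl subset_rfl hA
  intro r
  induction r using Nat.strong_induction_on with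
  | _ r ih =>
    intro T A hr hT hA
    by_cases hex : ∃ k, k ∉ T
    swap
    · push Not at hex
      have : A = 1 := by
        refine Units.ext (Matrix.ext_of_mulVec_single fun t => ?_)
        rw [hA t (hex t), Units.val_one, one_mulVec]
      rw [this]
      exact one_mem K
    obtain ⟨k, hk⟩ := hex
    have hk0 : k ∉ T₀ := fun h => hk (hT h)
    -- one more column is cleared by a product of elements of the subgroup
    have main : ∀ C : GL (Fin n) F, (∀ t ∈ T, (C : Matrix (Fin n) (Fin n) F) *ᵥ Pi.single t 1 = Pi.single t 1) →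
        ((C : Matrix (Fin n) (Fin n) F) *ᵥ Pi.single k 1) k ≠ 0 → C ∈ K := by
      intro C hC hne
      obtain ⟨β, hβ⟩ : ∃ β : Fˣ, (β : F) = (((C : Matrix (Fin n) (Fin n) F) *ᵥ Pi.single k 1) k)⁻¹ :=
        ⟨Units.mk0 _ (inv_ne_zero hne), rfl⟩
      obtain ⟨c, hc⟩ : ∃ c, c = ((dg k β * C : GL (Fin n) F) : Matrix (Fin n) (Fin n) F) *ᵥ Pi.single k 1 := ⟨_, rfl⟩
      have hck : c k = 1 := by
        rw [hc, Units.val_mul, ← mulVec_mulVec, dg_mulVec, Function.update_self, hβ, inv_mul_cancel₀ hne]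
      have hU : ∀ s : Finset (Fin n), k ∉ s → ∃ U : GL (Fin n) F, U ∈ K ∧ ∀ x : Fin n → F,
          (U : Matrix (Fin n) (Fin n) F) *ᵥ x = x + fun a => if a ∈ s then -(x k * c a) else 0 := by
        intro s
        induction s using Finset.induction_on with
        | empty => exact fun _ => ⟨1, one_mem K, fun x => by simp; rfl⟩
        | insert a s has ihs =>
          intro hks
          obtain ⟨hka, hks'⟩ := not_or.mp (fun h => hks (Finset.mem_insert.mpr h))
          obtain ⟨U, hUK, hU⟩ := ihs hks'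
          refine ⟨tr a k (Ne.symm hka) (-c a) * U, mul_mem (htr _ _ _ hk0 _) hUK, fun x => ?_⟩
          rw [Units.val_mul, ← mulVec_mulVec, tr_mulVec, hU]
          funext b
          by_cases hb : b = a
          · subst hb; simp [has, hks', mul_comm]
          · simp [hb]
      obtain ⟨U, hUK, hU⟩ := hU (Finset.univ.erase k) (Finset.notMem_erase _ _)
      have hD : U * (dg k β * C) ∈ K := by
        refine ih (insert k T)ᶜ.card ?_ (insert k T) _ rfl (hT.trans (Finset.subset_insert _ _)) ?_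
        · rw [← hr]
          refine Finset.card_lt_card ⟨fun x hx => ?_, fun h => ?_⟩
          · simp only [Finset.mem_compl, Finset.mem_insert, not_or] at hx ⊢
            exact hx.2
          · have := h (Finset.mem_compl.mpr hk)
            simp at this
        · intro t ht
          rw [Units.val_mul, ← mulVec_mulVec, hU]
          rcases Finset.mem_insert.mp ht with rfl | ht
          · rw [← hc]
            funext a
            by_cases ha : a = t
            · subst ha; simp [hck]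
            · simp [ha, hck]
          · have htk : t ≠ k := fun e => hk (e ▸ ht)
            rw [Units.val_mul, ← mulVec_mulVec, hC t ht, dg_mulVec]
            funext a
            simp [htk.symm, Function.update_apply]
            intro e
            simp [e, htk.symm]
      rw [← mul_assoc] at hD
      exact (K.mul_mem_cancel_left (mul_mem hUK (hdg k hk0 β))).mp hD
    by_cases hne : ((A : Matrix (Fin n) (Fin n) F) *ᵥ Pi.single k 1) k = 0
    swap
    · exact main A hA hne
    obtain ⟨l, hlT, hl⟩ : ∃ l, l ∉ T ∧ ((A : Matrix (Fin n) (Fin n) F) *ᵥ Pi.single k 1) l ≠ 0 := by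
      by_contra hno
      push Not at hno
      obtain ⟨c, hc⟩ : ∃ c, c = (A : Matrix (Fin n) (Fin n) F) *ᵥ Pi.single k 1 := ⟨_, rfl⟩
      have hsum : c = ∑ t ∈ T, c t • (Pi.single t (1 : F) : Fin n → F) := by
        funext a
        rw [Finset.sum_apply]
        simp only [Pi.smul_apply, Pi.single_apply, smul_eq_mul, mul_ite, mul_one, mul_zero, Finset.sum_ite_eq]
        split_ifs with ha
        · rfl
        · rw [hc]; exact hno a ha
      have hA2 : (A : Matrix (Fin n) (Fin n) F) *ᵥ (∑ t ∈ T, c t • (Pi.single t (1 : F) : Fin n → F)) = c := by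
        rw [mulVec_sum]
        conv_rhs => rw [hsum]
        exact Finset.sum_congr rfl fun t ht => by rw [mulVec_smul, hA t ht]
      have e : ((A⁻¹ : GL (Fin n) F) : Matrix (Fin n) (Fin n) F) *ᵥ c = Pi.single k 1 := by
        rw [hc, mulVec_mulVec, A.inv_mul, one_mulVec]
      rw [← hA2, mulVec_mulVec, A.inv_mul, one_mulVec] at e
      have := congrFun e k
      rw [Finset.sum_apply] at this
      simp [Pi.single_apply, hk] at this
    have hlk : k ≠ l := fun e => hl (e ▸ hne)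
    have hlT₀ : l ∉ T₀ := fun h => hlT (hT h)
    refine (K.mul_mem_cancel_left (htr k l hlk hlT₀ 1)).mp (main _ (fun t ht => ?_) ?_)
    · rw [Units.val_mul, ← mulVec_mulVec, hA t ht, tr_mulVec]
      simp [Pi.single_apply, Ne.symm (fun e => hlT (e ▸ ht) : t ≠ l)]
    · rw [Units.val_mul, ← mulVec_mulVec, tr_mulVec]
      rw [Pi.add_apply, hne, Pi.single_eq_same, zero_add, one_mul]
      exact hl

/-- A symmetric matrix sending a non-zero vector to a prescribed one. -/
theorem exists_symm (p m : Fin n → F) (hp : p ≠ 0) : ∃ S : Sym F n, S.1 *ᵥ p = m := by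
  obtain ⟨k, hk⟩ := Function.ne_iff.mp hp
  obtain ⟨e, he⟩ : ∃ e : Fin n → F, e = Pi.single k 1 := ⟨_, rfl⟩
  refine ⟨⟨(p k)⁻¹ • (vecMulVec m e + vecMulVec e m) - ((p k)⁻¹ * (p k)⁻¹ * (m ⬝ᵥ p)) • vecMulVec e e, ?_⟩, ?_⟩
  · show (_ : Matrix (Fin n) (Fin n) F)ᵀ = _
    simp [transpose_vecMulVec, add_comm]
  · have hep : e ⬝ᵥ p = p k := by simp [he]
    have hk' : p k ≠ 0 := hk
    simp only [sub_mulVec, smul_mulVec, add_mulVec, vecMulVec_mulVec, op_smul_eq_smul, hep, smul_add, smul_smul]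
    rw [inv_mul_cancel₀ hk', one_smul, mul_assoc ((p k)⁻¹), mul_comm ((p k)⁻¹) (m ⬝ᵥ p), mul_assoc (p k)⁻¹,
      mul_assoc (m ⬝ᵥ p), inv_mul_cancel₀ hk', mul_one, mul_comm (m ⬝ᵥ p), add_sub_cancel_right]

/-- The symplectic group is generated by the lower radical, the Levi complement and the exchanges. -/
theorem gen_eq_top (K : Subgroup (Sp F n)) (hn : 0 < n) (hq : ∀ S, qel S ∈ K) (hl : ∀ A, levi A ∈ K)
    (hw : ∀ j, wel j ∈ K) : K = ⊤ := by
  classical
  obtain ⟨i, hi⟩ : ∃ i : Fin n, i = ⟨0, hn⟩ := ⟨_, rfl⟩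
  obtain ⟨v₀, hv₀⟩ : ∃ v₀ : Fin n ⊕ Fin n → F, v₀ = Sum.elim (Pi.single i 1) 0 := ⟨_, rfl⟩
  have hpos : ∀ p m : Fin n → F, p ≠ 0 → ∃ g ∈ K, g.1 *ᵥ v₀ = Sum.elim p m := by
    intro p m hp
    obtain ⟨B, B', hB, hBe⟩ := SymmCongr.exists_column p hp i
    obtain ⟨S, hS⟩ := exists_symm p m hp
    refine ⟨qel S * levi ⟨B, B', hB, mul_eq_one_comm.mp hB⟩, mul_mem (hq _) (hl _), ?_⟩
    rw [hv₀, Submonoid.coe_mul, ← mulVec_mulVec, levi_mulVec, qel_mulVec, mulVec_zero, add_zero, hBe, hS]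
  have htrans : ∀ v : Fin n ⊕ Fin n → F, v ≠ 0 → ∃ g ∈ K, g.1 *ᵥ v₀ = v := by
    intro v hv
    obtain ⟨p, m, rfl⟩ : ∃ p m, v = Sum.elim p m :=
      ⟨v ∘ Sum.inl, v ∘ Sum.inr, (Sum.elim_comp_inl_inr v).symm⟩
    by_cases hp : p = 0
    swap
    · exact hpos p m hp
    subst hp
    obtain ⟨j, hj⟩ : ∃ j, m j ≠ 0 := Function.ne_iff.mp fun e => hv (by
      rw [e]; funext a; rcases a with a | a <;> rfl)
    obtain ⟨g, hg, hge⟩ := hpos (Function.update 0 j (-m j)) (Function.update m j 0) (fun e => hj (by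
      have := congrFun e j; simpa using this))
    refine ⟨(wel j)⁻¹ * g, mul_mem (inv_mem (hw j)) hg, ?_⟩
    have h2 : (wel j).1 *ᵥ Sum.elim 0 m = g.1 *ᵥ v₀ := by rw [hge, wel_mulVec]; rfl
    rw [Submonoid.coe_mul, ← mulVec_mulVec, ← h2, mulVec_mulVec, ← Submonoid.coe_mul, inv_mul_cancel,
      OneMemClass.coe_one, one_mulVec]
  obtain ⟨K', hK'⟩ : ∃ K' : Subgroup (Symp.iso (Symp.spB n F)), K' = K.map Symp.spEquiv.toMonoidHom := ⟨_, rfl⟩
  suffices h : K' = ⊤ by
    refine eq_top_iff.mpr fun x _ => ?_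
    have hx : Symp.spEquiv x ∈ K' := h ▸ Subgroup.mem_top _
    rw [hK'] at hx
    obtain ⟨y, hy, hye⟩ := hx
    exact (Symp.spEquiv.injective hye) ▸ hy
  rw [← top_le_iff, ← Symp.closure_tvG (Symp.spB_nondegenerate n F) (Symp.spB_isAlt n F), Subgroup.closure_le]
  rintro _ ⟨v, c, rfl⟩
  by_cases hv : v = 0
  · have : Symp.tvG (Symp.spB_isAlt n F) v c = 1 := by
      refine Subtype.ext (LinearEquiv.ext fun x => ?_)
      subst hv
      show x + _ • (0 : Fin n ⊕ Fin n → F) = x
      rw [smul_zero, add_zero]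
    rw [this]
    exact one_mem _
  obtain ⟨g, hg, rfl⟩ := htrans v hv
  have hroot : Symp.tvG (Symp.spB_isAlt n F) v₀ c ∈ K' := by
    rw [hK']
    refine ⟨wel i * qel (diagS i (-c)) * (wel i)⁻¹, mul_mem (mul_mem (hw i) (hq _)) (inv_mem (hw i)), ?_⟩
    refine Subtype.ext (LinearEquiv.ext fun x => ?_)
    show (wel i * qel (diagS i (-c)) * (wel i)⁻¹).1 *ᵥ x = x + (c * Symp.spB n F x v₀) • v₀
    obtain ⟨y, hy⟩ : ∃ y, y = ((wel i)⁻¹ : Sp F n).1 *ᵥ x := ⟨_, rfl⟩
    have hx : x = (wel i).1 *ᵥ y := by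
      rw [hy, mulVec_mulVec, ← Submonoid.coe_mul, mul_inv_cancel, OneMemClass.coe_one, one_mulVec]
    rw [Submonoid.coe_mul, ← mulVec_mulVec, ← hy, hx]
    obtain ⟨p, m, rfl⟩ : ∃ p m, y = Sum.elim p m := ⟨y ∘ Sum.inl, y ∘ Sum.inr, (Sum.elim_comp_inl_inr y).symm⟩
    rw [Submonoid.coe_mul, ← mulVec_mulVec, qel_mulVec, wel_mulVec, wel_mulVec, Symp.spB_apply, Cfsg.sympForm, hv₀,
      Symp.J_mulVec]
    have hB : ∀ a b : Fin n → F, Sum.elim a b ⬝ᵥ (Sum.elim (fun t => -(Sum.elim (Pi.single i 1) (0 : Fin n → F))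
        (Sum.inr t)) (fun t => (Sum.elim (Pi.single i 1) (0 : Fin n → F)) (Sum.inl t))) = b i := by
      intro a b
      rw [sumElim_dotProduct_sumElim]
      simp only [Sum.elim_inr, Sum.elim_inl, Pi.zero_apply, neg_zero]
      rw [show (fun _ : Fin n => (0 : F)) = 0 from rfl, dotProduct_zero, zero_add]
      exact (dotProduct_single _ _ _).trans (mul_one _)
    rw [hB]
    funext a
    rcases a with a | a <;> by_cases ha : a = i
    · subst ha
      simp only [diagS, smul_mulVec, eu_mulVec, Sum.elim_inl, Pi.add_apply, Pi.smul_apply, smul_eq_mul,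
        Function.update_self, Pi.single_eq_same]
      ring
    · simp only [diagS, smul_mulVec, eu_mulVec, Sum.elim_inl, Pi.add_apply, Pi.smul_apply, smul_eq_mul,
        Function.update_of_ne ha, Pi.single_eq_of_ne ha]
      ring
    · subst ha
      simp only [diagS, smul_mulVec, eu_mulVec, Sum.elim_inr, Pi.add_apply, Pi.smul_apply, smul_eq_mul,
        Function.update_self, Pi.zero_apply]
      ring
    · simp only [diagS, smul_mulVec, eu_mulVec, Sum.elim_inr, Pi.add_apply, Pi.smul_apply, smul_eq_mul,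
        Function.update_of_ne ha, Pi.single_eq_of_ne ha, Pi.zero_apply]
      ring
  have hmem : Symp.spEquiv g ∈ K' := by rw [hK']; exact ⟨g, hg, rfl⟩
  have := mul_mem (mul_mem hmem hroot) (inv_mem hmem)
  rw [Symp.tvG_conj] at this
  exact this

end Cfsg.Lib.Linear.WeilUnique
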