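import Cfsg.Prelude.Def_Characters
import Cfsg.Agent.Lib.Linear.WeilUnique.Exist

/-!
# The four smallest non-trivial irreducible characters of a symplectic group in odd characteristic
-/

set_option autoImplicit false

namespace Cfsg.Lib.Linear.WeilUnique

open Matrix

variable {F : Type*} [Field F] [Fintype F] [DecidableEq F] {n : ℕ} {V : Type*} [AddCommGroup V] [Module ℂ V]
  {ψ : AddChar F ℂ} {ρ : Sp F n →* Module.End ℂ V}

/-- The multiplicity of a weight, up to a constant, read off from a class function. -/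
noncomputable def wt (ψ : AddChar F ℂ) (χ : Sp F n → ℂ) (B : Sym F n) : ℂ :=
  (Fintype.card (Sym F n) : ℂ)⁻¹ * ∑ S, phi ψ B (-S) * χ (qel S)

theorem wt_eq (B : Sym F n) :
    wt ψ (fun g => LinearMap.trace ℂ V (ρ g)) B = LinearMap.trace ℂ V (wproj ψ ρ B) := by
  simp only [wt, wproj, map_smul, map_sum, smul_eq_mul]

theorem wt_ne_zero [FiniteDimensional ℂ V] {B : Sym F n} {v : V} (hv : v ∈ ws ψ ρ B) (hne : v ≠ 0) :
    wt ψ (fun g => LinearMap.trace ℂ V (ρ g)) B ≠ 0 := by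
  have hproj : LinearMap.IsProj (ws ψ ρ B) (wproj ψ ρ B) := ⟨wproj_mem B, fun x hx => wproj_of_mem hx⟩
  rw [wt_eq, hproj.trace]
  refine Nat.cast_ne_zero.mpr fun h => hne ?_
  rw [Submodule.finrank_eq_zero.mp h] at hv
  exact (Submodule.mem_bot ℂ).mp hv

theorem wt_eq_zero {a : F} {ε : ℂ} {f : (Fin n → F) → V} (hψ : ψ.IsPrimitive) (h2 : (2 : F) ≠ 0)
    (h : IsModel ψ ρ a ε f) (hs : Submodule.span ℂ (Set.range f) = ⊤) {B : Sym F n} (hB : ∀ x, B ≠ rk1 a x) :
    wt ψ (fun g => LinearMap.trace ℂ V (ρ g)) B = 0 := by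
  have h0 : wproj ψ ρ B = 0 := LinearMap.ext_on hs fun y hy => by
    obtain ⟨x, rfl⟩ := hy
    rw [LinearMap.zero_apply, wproj_of_ne hψ h2 (hB x) (h.mem_ws x)]
  rw [wt_eq, h0, map_zero]

theorem center_eps {a : F} {ε : ℂ} {f : (Fin n → F) → V}
    (h : IsModel ψ ρ a ε f) (hs : Submodule.span ℂ (Set.range f) = ⊤) (v : V) :
    ρ (levi (-1 : GL (Fin n) F)) v = (ε * qchi F (-1 : Matrix (Fin n) (Fin n) F).det) • v := by
  have hv : v ∈ Submodule.span ℂ (Set.range f) := hs ▸ Submodule.mem_top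
  induction hv using Submodule.span_induction with
  | mem y hy =>
    obtain ⟨x, rfl⟩ := hy
    rw [h.levi, Units.val_neg, Units.val_one, neg_mulVec, one_mulVec, h.neg, smul_smul, mul_comm]
  | zero => rw [map_zero, smul_zero]
  | add y z _ _ hy hz => rw [map_add, hy, hz, smul_add]
  | smul r y _ hy => rw [map_smul, hy, smul_comm]

theorem class_ne {c a : F} (hc : ¬IsSquare c) (ha : a ≠ 0) (i : Fin n) (x : Fin n → F) :
    rk1 (c * a) (Pi.single i 1) ≠ rk1 a x ∧ rk1 a (Pi.single i 1) ≠ rk1 (c * a) x := by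
  have hcsq : ∀ z : F, c ≠ z * z := fun z e => hc ⟨z, e⟩
  constructor <;> intro e <;> have e' := congrFun (congrFun (congrArg Subtype.val e) i) i <;>
    rw [rk1_apply, rk1_apply, Pi.single_eq_same, mul_one, mul_one] at e'
  · exact hcsq (x i) (mul_left_cancel₀ ha (by linear_combination e'))
  · have h1 : c * (x i * x i) = 1 := mul_left_cancel₀ ha (by linear_combination -e')
    have hx : x i ≠ 0 := fun e0 => by rw [e0, mul_zero, mul_zero] at h1; exact zero_ne_one h1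
    refine hcsq (x i)⁻¹ ?_
    field_simp
    linear_combination h1

/-- An irreducible representation in the sense of Mathlib has no other invariant subspaces. -/
theorem irr_of_isIrreducible {k : ℕ} (σ : Representation ℂ (Sp F n) (Fin k → ℂ)) (h : σ.IsIrreducible) :
    Irr (F := F) (n := n) σ := by
  intro W hW
  haveI := h
  rcases IsSimpleOrder.eq_bot_or_eq_top (⟨W, fun g v hv => hW g v hv⟩ : Subrepresentation σ) with e | e
  · exact Or.inl (congrArg Subrepresentation.toSubmodule e)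
  · exact Or.inr (congrArg Subrepresentation.toSubmodule e)

/-- An irreducible action gives an irreducible character. -/
theorem isIrrCharacter_trace [FiniteDimensional ℂ V] [Nontrivial V] (hirr : Irr ρ) :
    Cfsg.IsIrrCharacter (Sp F n) fun g => LinearMap.trace ℂ V (ρ g) := by
  obtain ⟨k, hk⟩ : ∃ k, k = Module.finrank ℂ V := ⟨_, rfl⟩
  obtain ⟨e, -⟩ : ∃ e : V ≃ₗ[ℂ] (Fin k → ℂ), e = e :=
    ⟨LinearEquiv.ofFinrankEq V (Fin k → ℂ) (by rw [Module.finrank_fin_fun, hk]), rfl⟩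
  obtain ⟨σ, hσ⟩ : ∃ σ : Representation ℂ (Sp F n) (Fin k → ℂ), ∀ g, σ g = e.conj (ρ g) :=
    ⟨{ toFun := fun g => e.conj (ρ g)
       map_one' := by rw [map_one]; exact e.conj_id
       map_mul' := fun g h => by rw [map_mul]; exact e.conj_comp _ _ }, fun g => rfl⟩
  refine ⟨k, σ, ?_, funext fun g => ?_⟩
  · haveI : Nontrivial (Fin k → ℂ) := e.toEquiv.symm.nontrivial
    haveI : Nontrivial (Subrepresentation σ) := ⟨⊥, ⊤, fun h => by
      have := congrArg Subrepresentation.toSubmodule h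
      exact (bot_ne_top : (⊥ : Submodule ℂ (Fin k → ℂ)) ≠ ⊤) this⟩
    constructor
    intro W
    rcases hirr (W.toSubmodule.comap e.toLinearMap) (fun g v hv => by
      have := W.apply_mem_toSubmodule g hv
      rw [hσ, LinearEquiv.conj_apply_apply] at this
      simpa using this) with h | h
    · refine Or.inl (Subrepresentation.toSubmodule_injective ?_)
      rw [← Submodule.map_comap_eq_of_surjective e.surjective W.toSubmodule]
      erw [h]
      exact Submodule.map_bot _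
    · refine Or.inr (Subrepresentation.toSubmodule_injective ?_)
      rw [← Submodule.map_comap_eq_of_surjective e.surjective W.toSubmodule]
      erw [h]
      rw [Submodule.map_top, LinearMap.range_eq_top.mpr e.surjective]
      rfl
  · show LinearMap.trace ℂ _ (σ g) = _
    rw [hσ, LinearMap.trace_conj']

/-- An invariant subspace contains one with no smaller invariant subspace. -/
theorem exists_minimal [FiniteDimensional ℂ V] (W : Submodule ℂ V) (hW : ∀ g, ∀ v ∈ W, ρ g v ∈ W) (h0 : W ≠ ⊥) :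
    ∃ U : Submodule ℂ V, U ≤ W ∧ U ≠ ⊥ ∧ (∀ g, ∀ v ∈ U, ρ g v ∈ U) ∧
      ∀ U' ≤ U, (∀ g, ∀ v ∈ U', ρ g v ∈ U') → U' = ⊥ ∨ U' = U := by
  classical
  have hex : ∃ d, ∃ U : Submodule ℂ V, U ≤ W ∧ U ≠ ⊥ ∧ (∀ g, ∀ v ∈ U, ρ g v ∈ U) ∧ Module.finrank ℂ U = d :=
    ⟨_, W, le_rfl, h0, hW, rfl⟩
  obtain ⟨U, hle, hne, hinv, hd⟩ := Nat.find_spec hex
  refine ⟨U, hle, hne, hinv, fun U' hle' hinv' => or_iff_not_imp_left.mpr fun hne' =>
    Submodule.eq_of_le_of_finrank_le hle' ?_⟩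
  rw [hd]
  exact Nat.find_min' hex ⟨U', hle'.trans hle, hne', hinv', rfl⟩

section Halves

open Weil

/-- The two halves give irreducible characters of both degrees with weights in a given class. -/
theorem exists_halves (hψ : ψ.IsPrimitive) (h2 : (2 : F) ≠ 0) (hn : 2 ≤ n) {a : F} (ha : a ≠ 0) (i : Fin n) :
    ∃ χ χ' : Sp F n → ℂ, Cfsg.IsIrrCharacter (Sp F n) χ ∧ Cfsg.IsIrrCharacter (Sp F n) χ' ∧
      2 * χ 1 = (Fintype.card F ^ n + 1 : ℕ) ∧ 2 * χ' 1 = (Fintype.card F ^ n - 1 : ℕ) ∧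
      wt ψ χ (rk1 a (Pi.single i 1)) ≠ 0 ∧ wt ψ χ' (rk1 a (Pi.single i 1)) ≠ 0 := by
  classical
  obtain ⟨b, hb⟩ : ∃ b, b = -(2 * a) := ⟨_, rfl⟩
  have hb0 : b ≠ 0 := hb ▸ neg_ne_zero.mpr (mul_ne_zero h2 ha)
  obtain ⟨θ, hθ⟩ : ∃ θ, θ = ψ.mulShift b := ⟨_, rfl⟩
  have hθp : θ.IsPrimitive := fun d hd => by
    rw [hθ, AddChar.mulShift_mulShift]; exact hψ (mul_ne_zero hb0 hd)
  have hθ' : ∀ d : F, d ≠ 0 → ∃ c, θ (d * c) ≠ 1 := fun d hd => by
    obtain ⟨c, hc⟩ := AddChar.ne_one_iff.mp (hθp hd)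
    exact ⟨c, by rwa [AddChar.mulShift_apply] at hc⟩
  obtain ⟨ω, hkey, hpar, hint⟩ := exists_full (n := n) hθ' h2
  have hqel := omega_qel hθ' h2 hkey
  obtain ⟨s, hs0, hsneg⟩ := omega_neg h2 hkey
  obtain ⟨Ω, hΩ⟩ : ∃ Ω : Sp F n →* Module.End ℂ ((Fin n → F) → ℂ), ∀ g f, Ω g f = ω g *ᵥ f :=
    ⟨{ toFun := fun g => Matrix.mulVecLin (ω g)
       map_one' := by rw [map_one]; exact Matrix.mulVecLin_one
       map_mul' := fun g h => by rw [map_mul, Matrix.mulVecLin_mul]; rfl }, fun g f => rfl⟩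
  have hφ : ∀ (S : Sym F n) x, θ (-(2⁻¹ * (x ⬝ᵥ S.1 *ᵥ x))) = phi ψ (rk1 a x) S := fun S x => by
    rw [phi_rk1, hθ, AddChar.mulShift_apply, hb]
    congr 1
    field_simp
  obtain ⟨ν, hν⟩ : ∃ ν, ν = qchi F (-1 : Matrix (Fin n) (Fin n) F).det := ⟨_, rfl⟩
  have main : ∀ ε : ℂ, (ε = 1 ∨ ε = -1) → ∃ (e : ℂ) (χ : Sp F n → ℂ), Cfsg.IsIrrCharacter (Sp F n) χ ∧
      e * ν = s * ε ∧ ((e = 1 ∧ 2 * χ 1 = (Fintype.card F ^ n + 1 : ℕ)) ∨
        (e = -1 ∧ 2 * χ 1 = (Fintype.card F ^ n - 1 : ℕ))) ∧ wt ψ χ (rk1 a (Pi.single i 1)) ≠ 0 := by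
    intro ε hε
    have hεε : ε * ε = 1 := by rcases hε with e | e <;> rw [e] <;> ring
    have hW0 : parity F n ε ≠ ⊥ := fun e0 => by
      have hm := pairFun_mem (F := F) (n := n) hεε (Pi.single i 1)
      rw [e0, Submodule.mem_bot] at hm
      have h1 := congrFun hm (Pi.single i 1)
      have hne : (Pi.single i (1 : F) : Fin n → F) ≠ -Pi.single i 1 := fun e1 => by
        have := neg_fix h2 (Pi.single i (1 : F) : Fin n → F) e1.symm
        simp at this
      simp [pairFun, hne] at h1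
    obtain ⟨U, hUW, hU0, hUinv, hUmin⟩ := exists_minimal (ρ := Ω) (parity F n ε)
      (fun g v hv => by rw [hΩ]; exact parity_invariant ω ε hpar g hv) hW0
    obtain ⟨σ, hσ⟩ : ∃ σ : Sp F n →* Module.End ℂ U, ∀ g v, (σ g v : (Fin n → F) → ℂ) = Ω g v :=
      ⟨{ toFun := fun g => (Ω g).restrict (hUinv g)
         map_one' := LinearMap.ext fun v => Subtype.ext (by simp)
         map_mul' := fun g h => LinearMap.ext fun v => Subtype.ext (by simp) }, fun g v => rfl⟩
    haveI : Nontrivial U := Submodule.nontrivial_iff_ne_bot.mpr hU0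
    have hirr : Irr σ := by
      intro W hW
      rcases hUmin (W.map U.subtype) (Submodule.map_subtype_le U W) (fun g v hv => by
        obtain ⟨w, hw, rfl⟩ := hv
        exact ⟨σ g w, hW g w hw, hσ g w⟩) with e | e
      · exact Or.inl (Submodule.map_injective_of_injective U.injective_subtype (by rw [e, Submodule.map_bot]))
      · exact Or.inr (Submodule.map_injective_of_injective U.injective_subtype (by
          rw [e, Submodule.map_top, Submodule.range_subtype]))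
    have hws : ∀ B, ∀ v ∈ ws ψ σ B, v ≠ 0 → ∃ x, B = rk1 a x := by
      intro B v hv hne
      obtain ⟨x, hx⟩ : ∃ x, v.1 x ≠ 0 := Function.ne_iff.mp fun e => hne (Subtype.ext e)
      refine ⟨x, eq_of_phi hψ h2 fun S => ?_⟩
      have h := congrFun (congrArg Subtype.val (hv S)) x
      rw [hσ, hΩ, hqel, Matrix.mulVec_diagonal, hφ] at h
      exact (mul_right_cancel₀ hx h).symm
    have hnt : ∃ g, σ g ≠ 1 := by
      by_contra hall
      push Not at hall
      obtain ⟨v, hv⟩ := exists_ne (0 : U)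
      refine hv (Subtype.ext (no_fixed hθp h2 (by omega) hqel hint v.1 fun g => ?_))
      rw [← hΩ, ← hσ, hall]
      rfl
    obtain ⟨c, -, hc⟩ := exists_nonsquare h2
    have hlow : LowRank ψ σ := fun B v hv hne => ⟨a, hws B v hv hne⟩
    obtain ⟨a', e, f, ha', hf, hspan⟩ := exists_spanning_model hψ h2 hn hirr hlow hnt ha hc
    have haa : a' = a := by
      rcases ha' with h' | h'
      · exact h'
      · obtain ⟨x, hx⟩ := hws _ (f (Pi.single i 1)) (hf.mem_ws _) (hf.ne_zero _ (by simp))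
        rw [h'] at hx
        exact absurd hx (class_ne hc ha i x).1
    subst haa
    refine ⟨e, fun g => LinearMap.trace ℂ U (σ g), isIrrCharacter_trace hirr, ?_, ?_,
      wt_ne_zero (hf.mem_ws _) (hf.ne_zero _ (by simp))⟩
    · obtain ⟨v, hv⟩ := exists_ne (0 : U)
      have h := center_eps hf hspan v
      rw [← hν] at h
      have hscal : σ (levi (-1 : GL (Fin n) F)) v = (s * ε) • v := Subtype.ext (funext fun x => by
        rw [hσ, hΩ, hsneg, hUW v.2 x]
        show s * (ε * v.1 x) = s * ε * v.1 x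
        ring)
      exact smul_left_injective ℂ hv (h.symm.trans hscal)
    · have h1 : LinearMap.trace ℂ U (σ 1) = (Module.finrank ℂ U : ℂ) := by rw [map_one, LinearMap.trace_one]
      rcases degree_cases hψ h2 ha hf hspan with ⟨he, hd⟩ | ⟨he, hd⟩
      · refine Or.inl ⟨he, ?_⟩
        dsimp only
        rw [← hd, Nat.cast_mul, h1]; norm_num
      · refine Or.inr ⟨he, ?_⟩
        dsimp only
        rw [← hd, Nat.add_sub_cancel, Nat.cast_mul, h1]; norm_num
  obtain ⟨e₁, χ₁, hχ₁, he₁, hd₁, hw₁⟩ := main 1 (Or.inl rfl)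
  obtain ⟨e₂, χ₂, hχ₂, he₂, hd₂, hw₂⟩ := main (-1) (Or.inr rfl)
  have hne : e₁ ≠ e₂ := fun e => by
    rw [e, he₂] at he₁
    exact hs0 (by linear_combination -(1 / 2 : ℂ) * he₁)
  rcases hd₁ with ⟨h1, h1'⟩ | ⟨h1, h1'⟩ <;> rcases hd₂ with ⟨h2', h2''⟩ | ⟨h2', h2''⟩
  · exact absurd (h1.trans h2'.symm) hne
  · exact ⟨χ₁, χ₂, hχ₁, hχ₂, h1', h2'', hw₁, hw₂⟩
  · exact ⟨χ₂, χ₁, hχ₂, hχ₁, h2'', h1', hw₂, hw₁⟩
  · exact absurd (h1.trans h2'.symm) hne

end Halves

/-- A character of small non-trivial degree has one of the two Weil degrees and one of two weights. -/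
theorem small_cases (hψ : ψ.IsPrimitive) (h2 : (2 : F) ≠ 0) (hn : 2 ≤ n) {a₀ : F} (ha₀ : a₀ ≠ 0) {c : F}
    (hc : ¬IsSquare c) (i : Fin n) {k : ℕ} (σ : Representation ℂ (Sp F n) (Fin k → ℂ)) (hσ : σ.IsIrreducible)
    (hk : k ≠ 1) (hsmall : 2 * (Fintype.card F + 1) * k <
      (Fintype.card F ^ n - 1) * (Fintype.card F ^ n - Fintype.card F)) :
    (2 * k = Fintype.card F ^ n + 1 ∨ 2 * k + 1 = Fintype.card F ^ n) ∧
      ∃ a ε f, (a = a₀ ∨ a = c * a₀) ∧ IsModel ψ (σ : Sp F n →* Module.End ℂ (Fin k → ℂ)) a ε f ∧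
        Submodule.span ℂ (Set.range f) = ⊤ ∧ wt ψ σ.character (rk1 a (Pi.single i 1)) ≠ 0 := by
  have hirr := irr_of_isIrreducible σ hσ
  have hlow : LowRank ψ (σ : Sp F n →* Module.End ℂ (Fin k → ℂ)) := by
    refine (lowRank_or_large hψ h2 hn).resolve_right fun h => ?_
    rw [Module.finrank_fin_fun] at h
    omega
  have hnt : ∃ g, σ g ≠ 1 := by
    by_contra hall
    push Not at hall
    have hk0 : 0 < k := by
      rcases Nat.eq_zero_or_pos k with e | e
      · subst e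
        haveI := hσ
        exact absurd (Subrepresentation.toSubmodule_injective (Subsingleton.elim _ _) : (⊥ : Subrepresentation σ) = ⊤)
          bot_ne_top
      · exact e
    obtain ⟨v, hv⟩ : ∃ v : Fin k → ℂ, v ≠ 0 := by
      haveI : Nonempty (Fin k) := ⟨⟨0, hk0⟩⟩
      exact exists_ne 0
    rcases hirr (ℂ ∙ v) (fun g w hw => by rw [hall]; exact hw) with e | e
    · exact hv (Submodule.span_singleton_eq_bot.mp e)
    · have := finrank_span_singleton (K := ℂ) hv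
      rw [e, finrank_top, Module.finrank_fin_fun] at this
      exact hk this
  obtain ⟨a, ε, f, ha, hf, hs⟩ := exists_spanning_model hψ h2 hn hirr hlow hnt ha₀ hc
  have hc0 : c ≠ 0 := fun e => hc (e ▸ IsSquare.zero)
  have ha0 : a ≠ 0 := by rcases ha with e | e <;> rw [e] <;> [exact ha₀; exact mul_ne_zero hc0 ha₀]
  refine ⟨?_, a, ε, f, ha, hf, hs, wt_ne_zero (hf.mem_ws _) (hf.ne_zero _ (by simp))⟩
  rcases degree_cases hψ h2 ha0 hf hs with ⟨-, hd⟩ | ⟨-, hd⟩ <;> rw [Module.finrank_fin_fun] at hd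
  · exact Or.inl hd
  · exact Or.inr hd

/-- In a Weil degree the weight determines the character. -/
theorem char_eq_of_wt (hψ : ψ.IsPrimitive) (h2 : (2 : F) ≠ 0) (hn : 2 ≤ n) {a₀ : F} (ha₀ : a₀ ≠ 0) {c : F}
    (hc : ¬IsSquare c) (i : Fin n) {χ χ' : Sp F n → ℂ} (hχ : Cfsg.IsIrrCharacter (Sp F n) χ)
    (hχ' : Cfsg.IsIrrCharacter (Sp F n) χ') (h1 : χ 1 = χ' 1) (hne : χ 1 ≠ 1)
    (hsmall : ∀ k : ℕ, χ 1 = k → 2 * (Fintype.card F + 1) * k <
      (Fintype.card F ^ n - 1) * (Fintype.card F ^ n - Fintype.card F)) {a : F} (ha : a = a₀ ∨ a = c * a₀)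
    (hw : wt ψ χ (rk1 a (Pi.single i 1)) ≠ 0) (hw' : wt ψ χ' (rk1 a (Pi.single i 1)) ≠ 0) : χ = χ' := by
  obtain ⟨k, σ, hσ, rfl⟩ := hχ
  obtain ⟨k', σ', hσ', rfl⟩ := hχ'
  rw [Representation.char_one, Module.finrank_fin_fun] at hne hsmall
  rw [Representation.char_one, Representation.char_one, Module.finrank_fin_fun, Module.finrank_fin_fun,
    Nat.cast_inj] at h1
  subst h1
  have hk : k ≠ 1 := fun e => hne (by rw [e, Nat.cast_one])
  have hc0 : c ≠ 0 := fun e => hc (e ▸ IsSquare.zero)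
  have key : ∀ τ : Representation ℂ (Sp F n) (Fin k → ℂ), τ.IsIrreducible →
      wt ψ τ.character (rk1 a (Pi.single i 1)) ≠ 0 →
      ∃ ε f, IsModel ψ (τ : Sp F n →* Module.End ℂ (Fin k → ℂ)) a ε f ∧
        Submodule.span ℂ (Set.range f) = ⊤ := by
    intro τ hτ hwτ
    obtain ⟨-, b, ε, f, hb, hf, hs, -⟩ := small_cases hψ h2 hn ha₀ hc i τ hτ hk (hsmall k rfl)
    obtain rfl : b = a := by
      by_contra hba
      refine hwτ (wt_eq_zero hψ h2 hf hs fun x => ?_)
      rcases hb with e | e <;> rcases ha with e' | e'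
      · exact absurd (e.trans e'.symm) hba
      · rw [e, e']; exact (class_ne hc ha₀ i x).1
      · rw [e, e']; exact (class_ne hc ha₀ i x).2
      · exact absurd (e.trans e'.symm) hba
    exact ⟨ε, f, hf, hs⟩
  obtain ⟨ε, f, hf, hs⟩ := key σ hσ hw
  obtain ⟨ε', f', hf', hs'⟩ := key σ' hσ' hw'
  have ha0 : a ≠ 0 := by rcases ha with e | e <;> rw [e] <;> [exact ha₀; exact mul_ne_zero hc0 ha₀]
  obtain rfl : ε = ε' := by
    rcases degree_cases hψ h2 ha0 hf hs with ⟨e, hd⟩ | ⟨e, hd⟩ <;>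
      rcases degree_cases hψ h2 ha0 hf' hs' with ⟨e', hd'⟩ | ⟨e', hd'⟩ <;>
      first | exact e.trans e'.symm | (exfalso; omega)
  exact funext fun g => trace_eq hψ h2 (by omega) ha0 hf hf' hs hs' g

end Cfsg.Lib.Linear.WeilUnique
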