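import Cfsg.Agent.Lib.Linear.WeilUnique.Weights

/-!
# The stabilizer of a weight of rank one

In a representation with weights of rank at most one, the stabilizer of a vector acts on its weight space by
the quadratic character of the determinant, and an exchange acts by a Fourier transform.
-/

set_option autoImplicit false

namespace Cfsg.Lib.Linear.WeilUnique

open Matrix

variable {F : Type*} [Field F] [Fintype F] [DecidableEq F] {n : ℕ} {V : Type*} [AddCommGroup V] [Module ℂ V]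
  {ψ : AddChar F ℂ} {ρ : Sp F n →* Module.End ℂ V}

theorem rho_qel_of_eq_one {B S : Sym F n} {v : V} (hv : v ∈ ws ψ ρ B) (h : phi ψ B S = 1) :
    ρ (qel S) v = v := by rw [hv S, h, one_smul]

theorem congrB_injective (A : GL (Fin n) F) : Function.Injective (congrB A) := fun B B' e => by
  have := congrArg (congrB A⁻¹) e
  rwa [← congrB_mul, ← congrB_mul, inv_mul_cancel, congrB_one, congrB_one] at this

theorem wproj_levi (hψ : ψ.IsPrimitive) (h2 : (2 : F) ≠ 0) (A : GL (Fin n) F) (B : Sym F n) (v : V) :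
    wproj ψ ρ (congrB A B) (ρ (levi A) v) = ρ (levi A) (wproj ψ ρ B v) := by
  conv_lhs => rw [← sum_wproj (ψ := ψ) (ρ := ρ) hψ h2 v]
  rw [map_sum, map_sum, Finset.sum_eq_single B]
  · exact wproj_of_mem (levi_mem_ws A (wproj_mem B v))
  · exact fun B' _ hne => wproj_of_ne hψ h2 (fun e => hne (congrB_injective A e).symm) (levi_mem_ws A (wproj_mem B' v))
  · simp

theorem eq_of_psi (hψ : ψ.IsPrimitive) {b b' : F} (h : ∀ c, ψ (b * c) = ψ (b' * c)) : b = b' := by
  by_contra hne
  refine hψ (sub_ne_zero.mpr hne) (AddChar.ext _ _ fun c => ?_)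
  rw [AddChar.mulShift_apply, AddChar.one_apply, sub_mul, sub_eq_add_neg, AddChar.map_add_eq_mul, h c,
    ← AddChar.map_add_eq_mul, add_neg_cancel, AddChar.map_zero_eq_one]

theorem phi_diagS (B : Sym F n) (j : Fin n) (c : F) : phi ψ B (diagS j c) = ψ (B.1 j j * c) := by
  simp only [phi, diagS, eu, Matrix.mul_smul, Matrix.trace_smul, Matrix.trace_mul_single, op_smul_eq_smul,
    smul_eq_mul, one_mul]
  rw [mul_comm]

theorem phi_pairS (B : Sym F n) (i j : Fin n) (c : F) : phi ψ B (pairS i j c) = ψ ((2 * B.1 i j) * c) := by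
  have hs : B.1 j i = B.1 i j := congrFun (congrFun B.2 i) j
  simp only [phi, pairS, eu, Matrix.mul_smul, mul_add, Matrix.trace_smul, Matrix.trace_add, Matrix.trace_mul_single,
    op_smul_eq_smul, smul_eq_mul, one_mul, hs]
  congr 1
  ring

theorem rk1_apply (a : F) (x : Fin n → F) (k l : Fin n) : (rk1 a x).1 k l = a * (x k * x l) := rfl

theorem tr_single (j i : Fin n) (h : j ≠ i) (r : F) :
    (tr j i h r : Matrix (Fin n) (Fin n) F) *ᵥ Pi.single i 1 = Pi.single i 1 + Pi.single j r := by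
  rw [tr_mulVec, Pi.single_eq_same, mul_one]

/-- The weights met by the exchange of `j` on a weight vector of `e i`. -/
def bline (a : F) (i j : Fin n) (r : F) : Sym F n := rk1 a (Pi.single i 1 + Pi.single j r)

theorem bline_eq (a : F) {i j : Fin n} (h : j ≠ i) (r : F) :
    bline a i j r = congrB (tr j i h r) (rk1 a (Pi.single i 1)) := by
  rw [congrB_rk1, tr_single, bline]

theorem bline_zero (a : F) (i j : Fin n) : bline a i j 0 = rk1 a (Pi.single i 1) := by
  rw [bline, Pi.single_zero, add_zero]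

theorem bline_injective (h2 : (2 : F) ≠ 0) {a : F} (ha : a ≠ 0) {i j : Fin n} (h : j ≠ i) :
    Function.Injective (bline a i j) := fun r r' e => by
  rcases rk1_inj ha e with h' | h'
  · have := congrFun h' j
    simpa [h] using this
  · have := congrFun h' i
    simp [h.symm] at this
    exact absurd (show (2 : F) = 0 by linear_combination this) h2

section Setup

variable (hψ : ψ.IsPrimitive) (h2 : (2 : F) ≠ 0) (hlow : LowRank ψ ρ) {a : F} (ha : a ≠ 0) {i : Fin n}
include hψ h2 hlow ha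

theorem wel_expand {j : Fin n} (hij : j ≠ i) {v : V} (hv : v ∈ ws ψ ρ (rk1 a (Pi.single i 1))) :
    ρ (wel j) v = ∑ r : F, ρ (levi (tr j i hij r)) (wproj ψ ρ (rk1 a (Pi.single i 1)) (ρ (wel j) v)) := by
  obtain ⟨y, hy⟩ : ∃ y, y = ρ (wel j) v := ⟨_, rfl⟩
  rw [← hy]
  have hfix : ∀ c, ρ (levi (tr j i hij c)) y = y := fun c => by
    rw [hy, ← Module.End.mul_apply, ← map_mul, levi_wel_pair i j hij.symm c, map_mul, Module.End.mul_apply,
      rho_qel_of_eq_one hv]
    rw [phi_pairS, rk1_apply, Pi.single_eq_of_ne hij, mul_zero, mul_zero, mul_zero, zero_mul,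
      AddChar.map_zero_eq_one]
  have hq : ∀ S : Sym F n, (∀ k, S.1 j k = 0) → ρ (qel S) y = phi ψ (rk1 a (Pi.single i 1)) S • y := fun S hS => by
    rw [hy, ← Module.End.mul_apply, ← map_mul, ← wel_qel_comm j S hS, map_mul, Module.End.mul_apply, hv S, map_smul]
  have hsupp : ∀ B, wproj ψ ρ B y ≠ 0 → ∃ r, B = bline a i j r := by
    intro B hB
    obtain ⟨b, x, rfl⟩ := hlow B _ (wproj_mem B y) hB
    have hii : (rk1 b x).1 i i = a := eq_of_psi hψ fun c => by
      have h1 := phi_eq_of_fixed (hq (diagS i c) fun k => by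
        simp [diagS, eu_apply, hij.symm]) hB
      rw [phi_diagS, phi_diagS, rk1_apply a] at h1
      rw [h1, Pi.single_eq_same, mul_one, mul_one]
    have hxi : x i ≠ 0 := fun e => ha (by rw [← hii, rk1_apply, e, mul_zero, mul_zero])
    have hk : ∀ k, k ≠ i → k ≠ j → x k = 0 := fun k hki hkj => by
      have h1 : ∀ c, ψ ((2 * (rk1 b x).1 i k) * c) = ψ (0 * c) := fun c => by
        have h1 := phi_eq_of_fixed (hq (pairS i k c) fun l => by
          simp [pairS, eu_apply, hij.symm, hkj]) hB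
        rw [phi_pairS, phi_pairS, rk1_apply a] at h1
        rw [h1, Pi.single_eq_of_ne hki, mul_zero, mul_zero, mul_zero]
      have := eq_of_psi hψ h1
      rw [rk1_apply, mul_eq_zero, mul_eq_zero, mul_eq_zero] at this
      refine ((this.resolve_left h2).resolve_left fun e => ha ?_).resolve_left hxi
      rw [← hii, rk1_apply, e, zero_mul]
    refine ⟨x j / x i, ?_⟩
    rw [bline, ← hii, rk1_apply]
    have hx : x = x i • (Pi.single i 1 + Pi.single j (x j / x i)) := by
      funext k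
      by_cases hki : k = i
      · subst hki; simp [hij.symm]
      · by_cases hkj : k = j
        · subst hkj; simp [hki]; field_simp
        · simp [hki, hkj, hk k hki hkj]
    conv_lhs => rw [hx]
    rw [rk1_smul, ← sq]
  conv_lhs => rw [← sum_wproj (ψ := ψ) (ρ := ρ) hψ h2 y]
  rw [← Finset.sum_subset (Finset.subset_univ (Finset.univ.image (bline a i j))),
    Finset.sum_image fun r _ r' _ e => bline_injective h2 ha hij e]
  · refine Finset.sum_congr rfl fun r _ => ?_
    rw [bline_eq a hij r, ← wproj_levi hψ h2, hfix]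
  · intro B _ hB
    by_contra hne
    obtain ⟨r, rfl⟩ := hsupp B hne
    exact hB (Finset.mem_image_of_mem _ (Finset.mem_univ r))

/-- The relation of the special linear group of the coordinate `j`. -/
theorem braid_eval {j : Fin n} (hij : j ≠ i) (s : Fˣ) {v : V} (hv : v ∈ ws ψ ρ (rk1 a (Pi.single i 1))) :
    qsum ψ (a * s) • wproj ψ ρ (rk1 a (Pi.single i 1)) (ρ (wel j) (wproj ψ ρ (rk1 a (Pi.single i 1)) (ρ (wel j) v))) =
      ρ (levi (dg j (-s))) (wproj ψ ρ (rk1 a (Pi.single i 1)) (ρ (wel j) v)) := by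
  obtain ⟨B₀, hB₀⟩ : ∃ B₀, B₀ = rk1 a (Pi.single i (1 : F)) := ⟨_, rfl⟩
  have hfix : ∀ S : Sym F n, (∀ k, S.1 i k = 0) → phi ψ B₀ S = 1 := fun S hS => by
    rw [hB₀, phi_rk1, mulVec_single_one, single_dotProduct, one_mul, Matrix.col_apply, hS, mul_zero,
      AddChar.map_zero_eq_one]
  have hd : ∀ c, phi ψ B₀ (diagS j c) = 1 := fun c => hfix _ fun k => by simp [diagS, eu_apply, hij]
  have hp : ∀ c, phi ψ B₀ (pairS i j c) = 1 := fun c => by
    rw [hB₀, phi_pairS, rk1_apply, Pi.single_eq_of_ne hij, mul_zero, mul_zero, mul_zero, zero_mul,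
      AddChar.map_zero_eq_one]
  rw [← hB₀] at hv ⊢
  obtain ⟨θ, hθ⟩ : ∃ θ, θ = wproj ψ ρ B₀ (ρ (wel j) v) := ⟨_, rfl⟩
  have hθm : θ ∈ ws ψ ρ B₀ := hθ ▸ wproj_mem _ _
  have e := congrArg (fun g => wproj ψ ρ B₀ (ρ g v)) (wel_qel_wel j s)
  simp only [map_mul, Module.End.mul_apply] at e
  rw [rho_qel_of_eq_one hv (hd _), ← wproj_comm, rho_qel_of_eq_one (wproj_mem _ _) (hd _)] at e
  have hdB : congrB (dg j (-s)) B₀ = B₀ := by
    rw [hB₀, congrB_rk1, dg_mulVec]
    congr 1
    funext k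
    by_cases hk : k = j
    · subst hk; simp [hij]
    · simp [hk]
  have hR := wproj_levi (ρ := ρ) hψ h2 (dg j (-s)) B₀ (ρ (wel j) v)
  rw [hdB] at hR
  rw [hR, ← hθ] at e
  have he : ρ (wel j) v = ∑ r : F, ρ (levi (tr j i hij r)) θ := by
    rw [hθ, hB₀]; exact wel_expand hψ h2 hlow ha hij (v := v) (hB₀ ▸ hv)
  rw [← hθ, ← e, he, qsum, Finset.sum_smul]
  simp only [map_sum]
  refine Finset.sum_congr rfl fun r _ => ?_
  have hm := levi_mem_ws (tr j i hij r) hθm
  have hc : ρ (wel j) (ρ (levi (tr j i hij r)) θ) = ρ (qel (pairS i j r)) (ρ (wel j) θ) := by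
    rw [← Module.End.mul_apply, ← map_mul, ← qel_wel_pair i j hij.symm r, map_mul, Module.End.mul_apply]
  rw [hm (diagS j s), map_smul, map_smul, hc, ← wproj_comm, rho_qel_of_eq_one (wproj_mem _ _) (hp _)]
  congr 1
  rw [hB₀, ← bline_eq a hij r, bline, phi_rk1]
  congr 1
  simp [diagS, smul_mulVec, eu_mulVec, dotProduct_single, hij, hij.symm]
  ring

variable [FiniteDimensional ℂ V]

theorem theta_scalar {j : Fin n} (hij : j ≠ i) {v : V} (hv : v ∈ ws ψ ρ (rk1 a (Pi.single i 1))) :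
    wproj ψ ρ (rk1 a (Pi.single i 1)) (ρ (wel j) v) = gam ψ a • v ∧
      ∀ β : Fˣ, ρ (levi (dg j β)) v = qchi F β • v := by
  obtain ⟨B₀, hB₀⟩ : ∃ B₀, B₀ = rk1 a (Pi.single i (1 : F)) := ⟨_, rfl⟩
  rw [← hB₀] at hv ⊢
  obtain ⟨θ, hθ⟩ : ∃ θ : ws ψ ρ B₀ →ₗ[ℂ] ws ψ ρ B₀, ∀ u, (θ u : V) = wproj ψ ρ B₀ (ρ (wel j) u.1) :=
    ⟨LinearMap.codRestrict _ ((wproj ψ ρ B₀).comp ((ρ (wel j)).comp (ws ψ ρ B₀).subtype)) fun u => wproj_mem _ _,
      fun u => rfl⟩
  have hinj : Function.Injective θ := by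
    rw [← LinearMap.ker_eq_bot, LinearMap.ker_eq_bot']
    intro u hu
    have h1 : wproj ψ ρ B₀ (ρ (wel j) u.1) = 0 := by rw [← hθ, hu]; rfl
    have h2' := wel_expand hψ h2 hlow ha hij (v := u.1) (hB₀ ▸ u.2)
    rw [← hB₀, h1] at h2'
    simp only [map_zero, Finset.sum_const_zero] at h2'
    refine Subtype.ext ?_
    have := congrArg (ρ (wel j)⁻¹) h2'
    rwa [← Module.End.mul_apply, ← map_mul, inv_mul_cancel, map_one, map_zero, Module.End.one_apply] at this
  obtain ⟨u, hu⟩ := LinearMap.injective_iff_surjective.mp hinj ⟨v, hv⟩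
  have hu' : wproj ψ ρ B₀ (ρ (wel j) u.1) = v := by rw [← hθ, hu]
  have key : ∀ s : Fˣ, qsum ψ (a * s) • wproj ψ ρ B₀ (ρ (wel j) v) = ρ (levi (dg j (-s))) v := fun s => by
    have := braid_eval hψ h2 hlow ha hij s (v := u.1) (hB₀ ▸ u.2)
    rw [← hB₀, hu'] at this
    exact this
  have h1 := key (-1)
  rw [neg_neg, show dg j (1 : Fˣ) = 1 from Units.ext (by simp [dg_val]), map_one, map_one,
    Module.End.one_apply, Units.val_neg, Units.val_one, mul_neg_one] at h1
  have hth : wproj ψ ρ B₀ (ρ (wel j) v) = gam ψ a • v := by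
    nth_rw 2 [← h1]
    rw [gam, smul_smul, inv_mul_cancel₀ (qsum_ne_zero hψ h2 (neg_ne_zero.mpr ha)), one_smul]
  refine ⟨hth, fun β => ?_⟩
  have h3 := key (-β)
  rw [neg_neg, hth, smul_smul, Units.val_neg, mul_neg, ← neg_mul, qsum_mul hψ h2 (neg_ne_zero.mpr ha) β.ne_zero,
    gam, mul_assoc, mul_inv_cancel₀ (qsum_ne_zero hψ h2 (neg_ne_zero.mpr ha)), mul_one] at h3
  exact h3.symm

/-- The exchange is a Fourier transform. -/
theorem wel_apply {j : Fin n} (hij : j ≠ i) {v : V} (hv : v ∈ ws ψ ρ (rk1 a (Pi.single i 1))) :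
    ρ (wel j) v = gam ψ a • ∑ r : F, ρ (levi (tr j i hij r)) v := by
  rw [wel_expand hψ h2 hlow ha hij hv, (theta_scalar hψ h2 hlow ha hij hv).1, Finset.smul_sum]
  exact Finset.sum_congr rfl fun r _ => map_smul _ _ _

/-- The stabilizer of the vector acts by the quadratic character of the determinant. -/
theorem stab_apply (A : GL (Fin n) F) (hA : (A : Matrix (Fin n) (Fin n) F) *ᵥ Pi.single i 1 = Pi.single i 1)
    {v : V} (hv : v ∈ ws ψ ρ (rk1 a (Pi.single i 1))) :
    ρ (levi A) v = qchi F (A : Matrix (Fin n) (Fin n) F).det • v := by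
  obtain ⟨B₀, hB₀⟩ : ∃ B₀, B₀ = rk1 a (Pi.single i (1 : F)) := ⟨_, rfl⟩
  obtain ⟨K, hK⟩ : ∃ K : Subgroup (GL (Fin n) F), ∀ A : GL (Fin n) F, A ∈ K ↔
      ((A : Matrix (Fin n) (Fin n) F) *ᵥ Pi.single i 1 = Pi.single i 1 ∧
        ∀ u ∈ ws ψ ρ B₀, ρ (levi A) u = qchi F (A : Matrix (Fin n) (Fin n) F).det • u) := by
    refine ⟨{ carrier := {A | (A : Matrix (Fin n) (Fin n) F) *ᵥ Pi.single i 1 = Pi.single i 1 ∧
        ∀ u ∈ ws ψ ρ B₀, ρ (levi A) u = qchi F (A : Matrix (Fin n) (Fin n) F).det • u}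
              one_mem' := ⟨by rw [Units.val_one, one_mulVec], fun u _ => by simp⟩
              mul_mem' := fun {A B} hA hB => ⟨by rw [Units.val_mul, ← mulVec_mulVec, hB.1, hA.1], fun u hu => by
                rw [map_mul, map_mul, Module.End.mul_apply, hB.2 u hu, map_smul, hA.2 u hu, smul_smul, Units.val_mul,
                  Matrix.det_mul, map_mul, mul_comm]⟩
              inv_mem' := fun {A} hA => ?_ }, fun A => Iff.rfl⟩
    have hfix : ((A⁻¹ : GL (Fin n) F) : Matrix (Fin n) (Fin n) F) *ᵥ Pi.single i 1 = Pi.single i 1 := by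
      conv_lhs => rw [← hA.1, mulVec_mulVec, A.inv_mul, one_mulVec]
    refine ⟨hfix, fun u hu => ?_⟩
    have h := congrArg (ρ (levi A⁻¹)) (hA.2 u hu)
    rw [← Module.End.mul_apply, ← map_mul, ← map_mul, inv_mul_cancel, map_one, map_one, Module.End.one_apply,
      map_smul] at h
    have hne : ((A⁻¹ : GL (Fin n) F) : Matrix (Fin n) (Fin n) F).det * (A : Matrix (Fin n) (Fin n) F).det = 1 := by
      rw [← Matrix.det_mul, A.inv_mul, Matrix.det_one]
    conv_rhs => rw [h, smul_smul, ← map_mul, hne, map_one, one_smul]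
  have hdg : ∀ j, j ≠ i → ∀ β, dg j β ∈ K := fun j hj β => (hK _).mpr ⟨by
    rw [dg_mulVec, Pi.single_eq_of_ne hj, mul_zero, Function.update_eq_self_iff, Pi.single_eq_of_ne hj], fun u hu => by
    rw [det_dg]; exact (theta_scalar hψ h2 hlow ha hj (hB₀ ▸ hu)).2 β⟩
  refine ((hK A).mp (mem_of_fixing K {i} (fun j hj => hdg j (by simpa using hj)) ?_ A fun t ht => ?_)).2 v
    (hB₀ ▸ hv)
  swap
  · rw [Finset.mem_singleton.mp ht]; exact hA
  intro k l hkl hl c
  have hli : l ≠ i := by simpa using hl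
  have hfix : ∀ c : F, ((tr k l hkl c : GL (Fin n) F) : Matrix (Fin n) (Fin n) F) *ᵥ Pi.single i 1 = Pi.single i 1 := fun c => by
    rw [tr_mulVec, Pi.single_eq_of_ne hli, mul_zero, Pi.single_zero, add_zero]
  refine (hK _).mpr ⟨hfix c, fun u hu => ?_⟩
  rw [det_tr, map_one, one_smul]
  obtain ⟨f, hf⟩ : ∃ f : F → Module.End ℂ V, ∀ c, f c = ρ (levi (tr k l hkl c)) := ⟨_, fun c => rfl⟩
  have hmem : ∀ c, f c u ∈ ws ψ ρ B₀ := fun c => by
    have h := levi_mem_ws (tr k l hkl c) hu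
    rwa [hB₀, congrB_rk1, hfix, ← hB₀, ← hf] at h
  -- scaling does not change the action
  have hscale : ∀ (β : Fˣ) (c : F), f ((β : F) * c) u = f c u := by
    intro β c
    have hne : qchi F (β : F) ≠ 0 := fun e => by
      have := qchi_sq β.ne_zero; rw [e, zero_mul] at this; exact zero_ne_one this
    by_cases hki : k = i
    · have e := congrArg (fun g => ρ (levi g) u) (dg_tr_right k l hkl β c)
      simp only [map_mul, Module.End.mul_apply, ← hf] at e
      rw [((hK _).mp (hdg l hli β)).2 u hu, ((hK _).mp (hdg l hli β)).2 _ (hmem _), map_smul, det_dg] at e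
      exact smul_right_injective V hne e
    · have e := congrArg (fun g => ρ (levi g) u) (dg_tr_left k l hkl β c)
      simp only [map_mul, Module.End.mul_apply, ← hf] at e
      rw [((hK _).mp (hdg k hki β)).2 u hu, ((hK _).mp (hdg k hki β)).2 _ (hmem _), map_smul, det_dg] at e
      exact (smul_right_injective V hne e).symm
  rw [← hf]
  have h := hscale (Units.mk0 2 h2) c
  rw [Units.val_mk0, two_mul, hf (c + c), tr_add, map_mul, map_mul, Module.End.mul_apply, ← hf] at h
  have h' := congrArg (f (-c)) h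
  rw [hf (-c), hf c, ← Module.End.mul_apply, ← map_mul, ← map_mul, ← tr_add, neg_add_cancel, tr_zero, map_one,
    map_one, Module.End.one_apply] at h'
  rw [hf c, h', ← Module.End.mul_apply, ← map_mul, ← map_mul, ← tr_add, neg_add_cancel, tr_zero, map_one,
    map_one, Module.End.one_apply]

end Setup

end Cfsg.Lib.Linear.WeilUnique
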