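import Cfsg.Agent.Lib.Linear.WeilUnique.Gauss
import Cfsg.Agent.Lib.Linear.WeilUnique.Gen

/-!
# Weights of the Siegel radical in a complex representation of the symplectic group
-/

set_option autoImplicit false

namespace Cfsg.Lib.Linear.WeilUnique

open Matrix

variable {F : Type*} [Field F] {n : ℕ} {V : Type*} [AddCommGroup V] [Module ℂ V]

section Defs

/-- The character of the radical attached to a symmetric matrix. -/
def phi (ψ : AddChar F ℂ) (B S : Sym F n) : ℂ := ψ (Matrix.trace (B.1 * S.1))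

theorem phi_add (ψ : AddChar F ℂ) (B S T : Sym F n) : phi ψ B (S + T) = phi ψ B S * phi ψ B T := by
  rw [phi, phi, phi, ← AddChar.map_add_eq_mul, AddSubgroup.coe_add, mul_add, Matrix.trace_add]

/-- The rank-one symmetric matrix of a vector. -/
def rk1 (a : F) (x : Fin n → F) : Sym F n := ⟨a • vecMulVec x x, by
  show (a • vecMulVec x x)ᵀ = _
  simp [transpose_vecMulVec]⟩

theorem phi_rk1 (ψ : AddChar F ℂ) (a : F) (x : Fin n → F) (S : Sym F n) :
    phi ψ (rk1 a x) S = ψ (a * (x ⬝ᵥ S.1 *ᵥ x)) := by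
  rw [phi, rk1, Matrix.smul_mul, Matrix.trace_smul, Matrix.trace_mul_comm, mul_vecMulVec, Matrix.trace_vecMulVec,
    dotProduct_comm, smul_eq_mul]

theorem rk1_zero (a : F) : rk1 a (0 : Fin n → F) = 0 := Subtype.ext (by simp [rk1])

theorem rk1_smul (a c : F) (x : Fin n → F) : rk1 a (c • x) = rk1 (a * c ^ 2) x :=
  Subtype.ext (by simp [rk1, smul_smul, sq])

theorem rk1_neg (a : F) (x : Fin n → F) : rk1 a (-x) = rk1 a x := Subtype.ext (by simp [rk1])

theorem rk1_inj {a : F} (ha : a ≠ 0) {x y : Fin n → F} (h : rk1 a x = rk1 a y) : x = y ∨ x = -y := by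
  have h1 : ∀ k l, x k * x l = y k * y l := fun k l => by
    have := congrFun (congrFun (congrArg Subtype.val h) k) l
    simp only [rk1, Matrix.smul_apply, vecMulVec_apply, smul_eq_mul] at this
    exact mul_left_cancel₀ ha this
  by_cases hx : ∃ k, x k ≠ 0
  · obtain ⟨k, hk⟩ := hx
    rcases mul_self_eq_mul_self_iff.mp (h1 k k) with e | e
    · refine Or.inl (funext fun l => mul_left_cancel₀ hk ?_)
      rw [h1 k l, e]
    · refine Or.inr (funext fun l => mul_left_cancel₀ hk ?_)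
      rw [h1 k l, e, Pi.neg_apply]
      ring
  · push Not at hx
    refine Or.inl (funext fun l => ?_)
    have := h1 l l
    rw [hx l, mul_zero] at this
    rw [hx l, mul_self_eq_zero.mp this.symm]

theorem rk1_ne_zero {a : F} (ha : a ≠ 0) {x : Fin n → F} (hx : x ≠ 0) : rk1 a x ≠ 0 := by
  rw [← rk1_zero a]
  intro e
  rcases rk1_inj ha e with h | h
  · exact hx h
  · exact hx (h.trans neg_zero)

/-- Congruence of a symmetric matrix. -/
def congrB (A : GL (Fin n) F) (B : Sym F n) : Sym F n :=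
  ⟨(A : Matrix (Fin n) (Fin n) F) * B.1 * (A : Matrix (Fin n) (Fin n) F)ᵀ, CrossCharSymp.conj_symm _ B.2⟩

theorem congrB_mul (A A' : GL (Fin n) F) (B : Sym F n) : congrB (A * A') B = congrB A (congrB A' B) :=
  Subtype.ext (by simp [congrB, transpose_mul, mul_assoc])

theorem congrB_one (B : Sym F n) : congrB 1 B = B := Subtype.ext (by simp [congrB])

theorem congrB_rk1 (A : GL (Fin n) F) (a : F) (x : Fin n → F) :
    congrB A (rk1 a x) = rk1 a ((A : Matrix (Fin n) (Fin n) F) *ᵥ x) := Subtype.ext (by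
  simp [congrB, rk1, mul_vecMulVec, vecMulVec_mul, vecMul_transpose])

theorem phi_act (ψ : AddChar F ℂ) (A : GL (Fin n) F) (B S : Sym F n) :
    phi ψ B (act A⁻¹ S) = phi ψ (congrB A B) S := by
  simp only [phi, act, congrB, inv_inv]
  congr 1
  rw [← mul_assoc, ← mul_assoc, Matrix.trace_mul_comm _ (A : Matrix (Fin n) (Fin n) F), ← mul_assoc, ← mul_assoc]

/-- The weight space of a symmetric matrix. -/
def ws (ψ : AddChar F ℂ) (ρ : Sp F n →* Module.End ℂ V) (B : Sym F n) : Submodule ℂ V where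
  carrier := {v | ∀ S, ρ (qel S) v = phi ψ B S • v}
  zero_mem' := fun S => by simp
  add_mem' := fun {v w} hv hw S => by rw [map_add, hv S, hw S, smul_add]
  smul_mem' := fun c v hv S => by rw [map_smul, hv S, smul_comm]

theorem mem_ws {ψ : AddChar F ℂ} {ρ : Sp F n →* Module.End ℂ V} {B : Sym F n} {v : V} :
    v ∈ ws ψ ρ B ↔ ∀ S, ρ (qel S) v = phi ψ B S • v := Iff.rfl

theorem levi_mem_ws {ψ : AddChar F ℂ} {ρ : Sp F n →* Module.End ℂ V} {B : Sym F n} (A : GL (Fin n) F) {v : V}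
    (hv : v ∈ ws ψ ρ B) : ρ (levi A) v ∈ ws ψ ρ (congrB A B) := fun S => by
  have e : qel S * levi A = levi A * qel (act A⁻¹ S) := by
    have h := levi_qel A⁻¹ S
    rw [map_inv] at h
    calc qel S * levi A = levi A * ((levi A)⁻¹ * qel S) * levi A := by rw [mul_inv_cancel_left]
      _ = levi A * (qel (act A⁻¹ S) * (levi A)⁻¹) * levi A := by rw [h]
      _ = levi A * qel (act A⁻¹ S) := by rw [mul_assoc, mul_assoc, inv_mul_cancel, mul_one]
  rw [← Module.End.mul_apply, ← map_mul, e, map_mul, Module.End.mul_apply, hv, map_smul, phi_act]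

/-- The representation involves only weights of rank at most one. -/
def LowRank (ψ : AddChar F ℂ) (ρ : Sp F n →* Module.End ℂ V) : Prop :=
  ∀ B, ∀ v ∈ ws ψ ρ B, v ≠ 0 → ∃ b x, B = rk1 b x

end Defs

variable [Fintype F] [DecidableEq F]

noncomputable instance : Fintype (Sym F n) := Fintype.ofFinite _

/-- The projection on a weight space. -/
noncomputable def wproj (ψ : AddChar F ℂ) (ρ : Sp F n →* Module.End ℂ V) (B : Sym F n) : Module.End ℂ V :=
  (Fintype.card (Sym F n) : ℂ)⁻¹ • ∑ S, phi ψ B (-S) • ρ (qel S)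

variable {ψ : AddChar F ℂ} {ρ : Sp F n →* Module.End ℂ V}

theorem eq_zero_of_phi (hψ : ψ.IsPrimitive) (h2 : (2 : F) ≠ 0) {B : Sym F n} (h : ∀ S, phi ψ B S = 1) : B = 0 := by
  have hzero : ∀ b : F, (∀ c, ψ (b * c) = 1) → b = 0 := fun b hb => by
    by_contra hb0
    exact hψ hb0 (AddChar.ext _ _ fun c => by rw [AddChar.mulShift_apply, hb, AddChar.one_apply])
  refine Subtype.ext (Matrix.ext fun i j => ?_)
  have hs : B.1 j i = B.1 i j := congrFun (congrFun B.2 i) j
  have : B.1 j i + B.1 i j = 0 := hzero _ fun c => by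
    rw [← h (pairS i j c), phi]
    congr 1
    simp only [pairS, eu, Matrix.mul_smul, mul_add, Matrix.trace_smul, Matrix.trace_add, Matrix.trace_mul_single,
      op_smul_eq_smul, smul_eq_mul, one_mul]
    ring
  rw [hs, ← two_mul, mul_eq_zero] at this
  exact this.resolve_left h2

theorem orth (hψ : ψ.IsPrimitive) (h2 : (2 : F) ≠ 0) {B B' : Sym F n} (h : B ≠ B') :
    ∑ S, phi ψ B (-S) * phi ψ B' S = 0 := by
  have e : ∀ S, phi ψ B (-S) * phi ψ B' S = phi ψ (B' - B) S := fun S => by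
    rw [phi, phi, phi, ← AddChar.map_add_eq_mul, AddSubgroup.coe_neg, AddSubgroup.coe_sub, sub_mul, mul_neg,
      Matrix.trace_sub, Matrix.trace_neg]
    congr 1
    ring
  simp only [e]
  obtain ⟨Φ, hΦ⟩ : ∃ Φ : AddChar (Sym F n) ℂ, ∀ S, Φ S = phi ψ (B' - B) S :=
    ⟨⟨fun S => phi ψ (B' - B) S, by simp [phi], phi_add ψ _⟩, fun S => rfl⟩
  simp only [← hΦ]
  refine AddChar.sum_eq_zero_of_ne_one fun h1 => h ?_
  have := eq_zero_of_phi hψ h2 (B := B' - B) fun S => by rw [← hΦ, h1, AddChar.one_apply]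
  exact (sub_eq_zero.mp this).symm

theorem phi_neg_mul (B S : Sym F n) : phi ψ B (-S) * phi ψ B S = 1 := by
  rw [← phi_add, neg_add_cancel, phi, ZeroMemClass.coe_zero, mul_zero, Matrix.trace_zero, AddChar.map_zero_eq_one]

theorem phi_comm (B S : Sym F n) : phi ψ B S = phi ψ S B := by rw [phi, phi, Matrix.trace_mul_comm]

theorem card_sym_ne_zero : (Fintype.card (Sym F n) : ℂ) ≠ 0 := Nat.cast_ne_zero.mpr Fintype.card_ne_zero

theorem qel_comm (S T : Sym F n) : ρ (qel S) * ρ (qel T) = ρ (qel T) * ρ (qel S) := by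
  rw [← map_mul, ← map_mul, ← qel_add, ← qel_add, add_comm]

theorem wproj_mem (B : Sym F n) (v : V) : wproj ψ ρ B v ∈ ws ψ ρ B := fun T => by
  simp only [wproj, LinearMap.smul_apply, LinearMap.sum_apply, map_smul, map_sum, Finset.smul_sum, smul_smul,
    ← Module.End.mul_apply, ← map_mul, ← qel_add]
  refine Fintype.sum_equiv (Equiv.addLeft T) _ _ fun S => ?_
  rw [Equiv.coe_addLeft, neg_add, phi_add]
  congr 1
  linear_combination -((Fintype.card (Sym F n) : ℂ)⁻¹ * phi ψ B (-S)) * phi_neg_mul (ψ := ψ) B T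

theorem wproj_comm (B S : Sym F n) (v : V) : ρ (qel S) (wproj ψ ρ B v) = wproj ψ ρ B (ρ (qel S) v) := by
  simp only [wproj, LinearMap.smul_apply, LinearMap.sum_apply, map_smul, map_sum]
  congr 1
  refine Finset.sum_congr rfl fun T _ => ?_
  rw [← Module.End.mul_apply, qel_comm, Module.End.mul_apply]

theorem wproj_of_mem {B : Sym F n} {v : V} (hv : v ∈ ws ψ ρ B) : wproj ψ ρ B v = v := by
  simp only [wproj, LinearMap.smul_apply, LinearMap.sum_apply, mem_ws.mp hv, smul_smul, phi_neg_mul, one_smul,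
    Finset.sum_const, Finset.card_univ, ← Nat.cast_smul_eq_nsmul ℂ]
  rw [inv_mul_cancel₀ card_sym_ne_zero, one_smul]

theorem wproj_of_ne (hψ : ψ.IsPrimitive) (h2 : (2 : F) ≠ 0) {B B' : Sym F n} (h : B ≠ B') {v : V}
    (hv : v ∈ ws ψ ρ B') : wproj ψ ρ B v = 0 := by
  simp only [wproj, LinearMap.smul_apply, LinearMap.sum_apply, mem_ws.mp hv, smul_smul]
  rw [← Finset.sum_smul, orth hψ h2 h, zero_smul, smul_zero]

theorem sum_wproj (hψ : ψ.IsPrimitive) (h2 : (2 : F) ≠ 0) (v : V) : ∑ B, wproj ψ ρ B v = v := by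
  simp only [wproj, LinearMap.smul_apply, LinearMap.sum_apply, ← Finset.smul_sum]
  rw [Finset.sum_comm, Finset.sum_eq_single (0 : Sym F n)]
  · simp [phi, qel_zero, ← Nat.cast_smul_eq_nsmul ℂ, smul_smul, inv_mul_cancel₀ card_sym_ne_zero]
  · intro S _ hS
    rw [← Finset.sum_smul]
    have := orth (ψ := ψ) hψ h2 (B := (0 : Sym F n)) (B' := -S) (by simpa [eq_comm] using hS)
    simp only [phi_comm (ψ := ψ) _ (-S)] at *
    rw [Finset.sum_congr rfl (g := fun B => phi ψ (-S) B) fun B _ => rfl]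
    have e : ∀ B : Sym F n, phi ψ 0 (-B) = 1 := fun B => by simp [phi]
    simp only [e, one_mul] at this
    rw [this, zero_smul]
  · simp

theorem phi_eq_of_fixed {S : Sym F n} {c : ℂ} {v : V} (hv : ρ (qel S) v = c • v) {B : Sym F n}
    (hB : wproj ψ ρ B v ≠ 0) : phi ψ B S = c := by
  have h := wproj_mem (ψ := ψ) (ρ := ρ) B v S
  rw [wproj_comm, hv, map_smul] at h
  exact (smul_left_injective ℂ hB h).symm

/-- Vectors of distinct weights are independent. -/
theorem eq_zero_of_sum (hψ : ψ.IsPrimitive) (h2 : (2 : F) ≠ 0) {ι : Type*} (s : Finset ι) (B : ι → Sym F n)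
    (hB : Set.InjOn B s) (v : ι → V) (hv : ∀ i ∈ s, v i ∈ ws ψ ρ (B i)) (hsum : ∑ i ∈ s, v i = 0) {i : ι}
    (hi : i ∈ s) : v i = 0 := by
  have h := congrArg (wproj ψ ρ (B i)) hsum
  rw [map_zero, map_sum, Finset.sum_eq_single i, wproj_of_mem (hv i hi)] at h
  · exact h
  · exact fun j hj hne => wproj_of_ne hψ h2 (fun e => hne (hB hj hi e.symm)) (hv j hj)
  · exact fun h' => absurd hi h'

end Cfsg.Lib.Linear.WeilUnique
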